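import Cfsg.Agent.Lib.J1.Alt

/-!
# Explicit elements of `C₂ × A₅` for the recognition of `J₁`
-/

set_option autoImplicit false
set_option maxRecDepth 100000
set_option synthInstance.maxSize 1000
set_option synthInstance.maxHeartbeats 400000

namespace Cfsg.Agent.Lib.J1Rec.AData

open Cfsg.Agent.Lib.J1.Alt

/-- The permutation of `a`. -/
def a5p : Equiv.Perm (Fin 5) := Equiv.swap 1 4 * Equiv.swap 2 3

/-- The element `a`. -/
def a5 : A5 := ⟨a5p, Equiv.Perm.mem_alternatingGroup.2 (by decide)⟩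

/-- The element `a`, in `A`. -/
def aA : A := (1, a5)

/-- The element `b`, in `A`. -/
abbrev bA : A := y0

/-- The element `c = a b`. -/
def cA : A := aA * bA

/-- The word `abaBabaB`. -/
def y1 : A := aA * bA * aA * bA⁻¹ * aA * bA * aA * bA⁻¹

/-- The word `aBaBa`. -/
def y2 : A := aA * bA⁻¹ * aA * bA⁻¹ * aA

/-- The word `baBab`. -/
def y3 : A := bA * aA * bA⁻¹ * aA * bA

/-- The word `aBaB`. -/
def y4 : A := aA * bA⁻¹ * aA * bA⁻¹

/-- The involution inverting `b`. -/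
def f₀ : A := cA * w1 * cA⁻¹

/-- The element `n⁻¹ t n`, in the positive branch. -/
def gP : A := cA * (w3 * t0) * cA⁻¹

/-- The element `n⁻¹ t n`, in the negative branch. -/
def gN : A := cA * w2 * cA⁻¹

theorem a_sq : aA * aA = 1 := by decide +kernel

theorem b_cube : bA * bA * bA = 1 := by decide +kernel

theorem b_ne : bA ≠ 1 := by decide +kernel

theorem word_w1 : bA * aA * bA * aA * bA⁻¹ * aA * bA⁻¹ = w1 := by decide +kernel

theorem w1_sq : w1 * w1 = 1 := by decide +kernel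

theorem b_w1 : bA * w1 * bA⁻¹ = w3 := by decide +kernel

theorem b_w3 : bA * w3 * bA⁻¹ = w2 := by decide +kernel

theorem w_prod : w1 * w3 * w2 = 1 := by decide +kernel

theorem w_comm : w1 * t0 = t0 * w1 ∧ w3 * t0 = t0 * w3 := by decide +kernel

theorem f_sq : f₀ * f₀ = 1 := by decide +kernel

theorem f_b : f₀ * bA * f₀⁻¹ = bA⁻¹ := by decide +kernel

theorem f_ne_t0 : f₀ ≠ t0 := by decide +kernel

theorem f_ne_one : f₀ ≠ 1 := by decide +kernel

theorem no_four : ∀ x : A, x ^ 4 = 1 → x * x = 1 := by decide +kernel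

theorem inv_of_three : ∀ α : A, ∀ β : A, (α ^ 3 = 1 ∧ α ≠ 1 ∧ β * β = 1 ∧ β ≠ 1 ∧ α * β = β * α) → β = t0 := by
  decide +kernel

theorem no_fifteen : ∀ α : A, ∀ β : A, (α ^ 5 = 1 ∧ β ^ 3 = 1 ∧ α * β = β * α) → α = 1 ∨ β = 1 := by
  decide +kernel

theorem no_seven : ∀ x : A, x ^ 7 = 1 → x = 1 := by decide +kernel

theorem no_eleven : ∀ x : A, x ^ 11 = 1 → x = 1 := by decide +kernel

theorem no_nineteen : ∀ x : A, x ^ 19 = 1 → x = 1 := by decide +kernel

theorem branch_pos : ∀ α : A, (α ≠ 1 ∧ α ^ 5 = 1 ∧ gP * α * gP⁻¹ = α⁻¹) →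
    ∃ k : Fin 5, α ^ (k : ℕ) = y1 ∨ α ^ (k : ℕ) = y2 := by
  decide +kernel

theorem branch_neg : ∀ α : A, (α ≠ 1 ∧ α ^ 5 = 1 ∧ gN * α * gN⁻¹ = α⁻¹) →
    ∃ k : Fin 5, α ^ (k : ℕ) = y3 ∨ α ^ (k : ℕ) = y4 := by
  decide +kernel

theorem normal_card : (Finset.univ.filter (fun a : A => ∀ v ∈ V8F, a * v * a⁻¹ ∈ V8F)).card = 24 := by
  decide +kernel


theorem b_norm : ∀ v ∈ V8F, bA * v * bA⁻¹ ∈ V8F := by decide +kernel

theorem w1_b_ne : bA * w1 * bA⁻¹ ≠ w1 := by decide +kernel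



theorem V8F_erase_card : (V8F.erase 1).card = 7 := by decide +kernel

end Cfsg.Agent.Lib.J1Rec.AData
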