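import Cfsg.Agent.Lib.J1Rec.Pos
import Cfsg.Agent.Lib.J1Rec.Col1
import Cfsg.Agent.Lib.J1Rec.Col2
import Cfsg.Agent.Lib.J1Rec.Col3
import Cfsg.Agent.Lib.J1Rec.A120

/-!
# The coset enumeration certificates, on the group side
-/

set_option autoImplicit false

namespace Cfsg.Agent.Lib.J1Rec.Index

open Cfsg.Agent.Lib.TC.Core Cfsg.Agent.Lib.TC.Pres Cfsg.Agent.Lib.J1Rec.Rels

variable {Γ : Type*} [Group Γ]

/-- The letters. -/
def E6 (a b t w : Γ) (c : Nat) : Γ :=
  match c with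
  | 0 => a
  | 1 => b
  | 2 => b⁻¹
  | 3 => t
  | 4 => w
  | 5 => w⁻¹
  | _ => 1

theorem prodA_congr {E E' : Nat → Γ} (l : List Nat) (h : ∀ z ∈ l, E z = E' z) :
    prodA E l = prodA E' l := by
  induction l with
  | nil => rfl
  | cons z l ih =>
    rw [prodA_cons, prodA_cons, h z (by simp), ih (fun y hy => h y (by simp [hy]))]

theorem map_prodA {Γ' : Type*} [Group Γ'] (φ : Γ →* Γ') (E : Nat → Γ) (l : List Nat) :
    φ (prodA E l) = prodA (fun c => φ (E c)) l := by
  induction l with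
  | nil => simp
  | cons z l ih => simp [ih]

theorem map_E6 {Γ' : Type*} [Group Γ'] (φ : Γ →* Γ') (a b t w : Γ) (c : Nat) :
    φ (E6 a b t w c) = E6 (φ a) (φ b) (φ t) (φ w) c := by
  unfold E6
  split <;> simp

theorem map_prodA_E6 {Γ' : Type*} [Group Γ'] (φ : Γ →* Γ') (a b t w : Γ) (l : List Nat) :
    φ (prodA (E6 a b t w) l) = prodA (E6 (φ a) (φ b) (φ t) (φ w)) l := by
  rw [map_prodA]
  exact prodA_congr l (fun z _ => map_E6 φ a b t w z)

theorem inv6_spec {a b t w : Γ} (ha : a * a = 1) (ht : t * t = 1) (c : Nat) (hc : c < 6) :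
    inv6 c < 6 ∧ E6 a b t w (inv6 c) = (E6 a b t w c)⁻¹ := by
  have ha' : a⁻¹ = a := inv_eq_of_mul_eq_one_left ha
  have ht' : t⁻¹ = t := inv_eq_of_mul_eq_one_left ht
  interval_cases c <;> simp [inv6, E6, ha', ht']

theorem inv4_spec {a b t w : Γ} (ha : a * a = 1) (ht : t * t = 1) (c : Nat) (hc : c < 4) :
    inv4 c < 4 ∧ E6 a b t w (inv4 c) = (E6 a b t w c)⁻¹ := by
  have ha' : a⁻¹ = a := inv_eq_of_mul_eq_one_left ha
  have ht' : t⁻¹ = t := inv_eq_of_mul_eq_one_left ht
  interval_cases c <;> simp [inv4, E6, ha', ht']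

/-- The index bound for a relator certificate. -/
theorem index_bound (C : Cert) (hk : C.k = 6) (rels : List (List Nat))
    (hrelk : ∀ l ∈ rels, ∀ z ∈ l, z < C.k) (wit : Nat → Nat × Nat × Bool)
    (h1 : chkRelRots C inv6 rels wit = true) (h2 : chkSubRots C subs3 = true) (hC : Checked C)
    {a b t w : Γ} (ha : a * a = 1) (ht : t * t = 1)
    (hgen : Subgroup.closure ({a, b, t, w} : Set Γ) = ⊤)
    (hrel : ∀ l ∈ rels, prodA (E6 a b t w) l = 1) :
    (Subgroup.closure ({a, b, t} : Set Γ)).index ≠ 0 ∧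
      (Subgroup.closure ({a, b, t} : Set Γ)).index ≤ C.countRoots C.N := by
  refine finite_index_of_cert _ (E6 a b t w) C inv6 rels subs3 wit ?_ ?_ hrelk hrel ?_ h1 h2 hC
  · intro c hc
    rw [hk] at hc ⊢
    exact inv6_spec ha ht c hc
  · rw [eq_top_iff, ← hgen, Subgroup.closure_le, hk]
    rintro x (rfl | rfl | rfl | rfl)
    · exact Subgroup.subset_closure ⟨0, by simp, rfl⟩
    · exact Subgroup.subset_closure ⟨1, by simp, rfl⟩
    · exact Subgroup.subset_closure ⟨3, by simp, rfl⟩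
    · exact Subgroup.subset_closure ⟨4, by simp, rfl⟩
  · intro l hl
    simp only [subs3, List.mem_cons, List.not_mem_nil, or_false] at hl
    rcases hl with rfl | rfl | rfl
    · exact Subgroup.subset_closure (by simp [E6])
    · exact Subgroup.subset_closure (by simp [E6])
    · exact Subgroup.subset_closure (by simp [E6])

/-- The relators of `2 × A₅` bound the group they live in. -/
theorem card_le_120 {a b t w : Γ} (hgen : Subgroup.closure ({a, b, t} : Set Γ) = ⊤)
    (hrel : ∀ l ∈ relsA120, prodA (E6 a b t w) l = 1) : Nat.card Γ ≠ 0 ∧ Nat.card Γ ≤ 120 := by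
  have ha : a * a = 1 := by
    have := hrel [0, 0] (by simp [relsA120])
    simpa [E6] using this
  have ht : t * t = 1 := by
    have := hrel [3, 3] (by simp [relsA120])
    simpa [E6] using this
  have hk : A120.cert.k = 4 := rfl
  have := finite_index_of_cert (⊥ : Subgroup Γ) (E6 a b t w) A120.cert inv4 relsA120 subs0
    A120.witT.get (by
      intro c hc
      rw [hk] at hc ⊢
      exact inv4_spec ha ht c hc) (by
      rw [eq_top_iff, ← hgen, Subgroup.closure_le, hk]
      rintro x (rfl | rfl | rfl)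
      · exact Subgroup.subset_closure ⟨0, by simp, rfl⟩
      · exact Subgroup.subset_closure ⟨1, by simp, rfl⟩
      · exact Subgroup.subset_closure ⟨3, by simp, rfl⟩) (by decide +kernel) hrel (by simp [subs0])
    A120.h1 A120.h2 A120.hchecked
  rw [A120.hcount, Subgroup.index_bot] at this
  exact this

theorem relsA120_lt : ∀ l ∈ relsA120, ∀ z ∈ l, z < 4 := by decide +kernel

/-- The subgroup generated by `a, b, t` has at most `120` elements. -/
theorem card_closure_le {a b t w : Γ} (hrel : ∀ l ∈ relsA120, prodA (E6 a b t w) l = 1) :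
    Nat.card (Subgroup.closure ({a, b, t} : Set Γ)) ≠ 0 ∧
      Nat.card (Subgroup.closure ({a, b, t} : Set Γ)) ≤ 120 := by
  set H := Subgroup.closure ({a, b, t} : Set Γ) with hH
  have ma : a ∈ H := Subgroup.subset_closure (by simp)
  have mb : b ∈ H := Subgroup.subset_closure (by simp)
  have mt : t ∈ H := Subgroup.subset_closure (by simp)
  refine card_le_120 (a := ⟨a, ma⟩) (b := ⟨b, mb⟩) (t := ⟨t, mt⟩) (w := 1) ?_ ?_
  · have h2 := Subgroup.closure_closure_coe_preimage (k := ({a, b, t} : Set Γ))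
    rw [eq_top_iff]
    rw [← hH] at h2
    rw [← h2, Subgroup.closure_le]
    rintro ⟨x, hx⟩ h
    rcases h with h | h | h
    · have h' : (⟨x, hx⟩ : H) = ⟨a, ma⟩ := Subtype.ext h
      rw [h']
      exact Subgroup.subset_closure (by simp)
    · have h' : (⟨x, hx⟩ : H) = ⟨b, mb⟩ := Subtype.ext h
      rw [h']
      exact Subgroup.subset_closure (by simp)
    · have h' : (⟨x, hx⟩ : H) = ⟨t, mt⟩ := Subtype.ext h
      rw [h']
      exact Subgroup.subset_closure (by simp)
  · intro l hl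
    apply Subtype.val_injective
    have h3 := map_prodA_E6 H.subtype ⟨a, ma⟩ ⟨b, mb⟩ ⟨t, mt⟩ 1 l
    simp only [Subgroup.coe_subtype, map_one] at h3
    have h4 : (H.subtype (prodA (E6 ⟨a, ma⟩ ⟨b, mb⟩ ⟨t, mt⟩ 1) l) : Γ) = prodA (E6 a b t w) l := by
      simp only [Subgroup.coe_subtype]
      rw [h3]
      apply prodA_congr
      intro z hz
      have hz4 : z < 4 := relsA120_lt l hl z hz
      interval_cases z <;> rfl
    simpa using h4.trans (hrel l hl)

/-- The order bound for the real presentation. -/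
theorem card_closure_pos_le {a b t w : Γ} (hrel : ∀ l ∈ relsPos, prodA (E6 a b t w) l = 1) :
    Nat.card (Subgroup.closure ({a, b, t, w} : Set Γ)) ≠ 0 ∧
      Nat.card (Subgroup.closure ({a, b, t, w} : Set Γ)) ≤ 175560 := by
  set K := Subgroup.closure ({a, b, t, w} : Set Γ) with hK
  have ma : a ∈ K := Subgroup.subset_closure (by simp)
  have mb : b ∈ K := Subgroup.subset_closure (by simp)
  have mt : t ∈ K := Subgroup.subset_closure (by simp)
  have mw : w ∈ K := Subgroup.subset_closure (by simp)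
  have hrel' : ∀ l ∈ relsPos, prodA (E6 (⟨a, ma⟩ : K) ⟨b, mb⟩ ⟨t, mt⟩ ⟨w, mw⟩) l = 1 := by
    intro l hl
    apply Subtype.val_injective
    have h3 := map_prodA_E6 K.subtype ⟨a, ma⟩ ⟨b, mb⟩ ⟨t, mt⟩ ⟨w, mw⟩ l
    simp only [Subgroup.coe_subtype] at h3
    simpa [h3] using hrel l hl
  have hgen : Subgroup.closure ({⟨a, ma⟩, ⟨b, mb⟩, ⟨t, mt⟩, ⟨w, mw⟩} : Set K) = ⊤ := by
    have h2 := Subgroup.closure_closure_coe_preimage (k := ({a, b, t, w} : Set Γ))
    rw [eq_top_iff]
    rw [← hK] at h2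
    rw [← h2, Subgroup.closure_le]
    rintro ⟨x, hx⟩ h
    rcases h with h | h | h | h
    · have h' : (⟨x, hx⟩ : K) = ⟨a, ma⟩ := Subtype.ext h
      rw [h']
      exact Subgroup.subset_closure (by simp)
    · have h' : (⟨x, hx⟩ : K) = ⟨b, mb⟩ := Subtype.ext h
      rw [h']
      exact Subgroup.subset_closure (by simp)
    · have h' : (⟨x, hx⟩ : K) = ⟨t, mt⟩ := Subtype.ext h
      rw [h']
      exact Subgroup.subset_closure (by simp)
    · have h' : (⟨x, hx⟩ : K) = ⟨w, mw⟩ := Subtype.ext h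
      rw [h']
      exact Subgroup.subset_closure (by simp)
  have ha : (⟨a, ma⟩ : K) * ⟨a, ma⟩ = 1 := by
    have := hrel' [0, 0] (by simp [relsPos, relsA120])
    simpa [E6] using this
  have ht : (⟨t, mt⟩ : K) * ⟨t, mt⟩ = 1 := by
    have := hrel' [3, 3] (by simp [relsPos, relsA120])
    simpa [E6] using this
  obtain ⟨h0, h1⟩ := index_bound Pos.cert rfl relsPos (by decide +kernel) Pos.witT.get Pos.h1 Pos.h2
    Pos.hchecked ha ht hgen hrel'
  rw [Pos.hcount] at h1
  have h120 := card_closure_le (a := (⟨a, ma⟩ : K)) (b := ⟨b, mb⟩) (t := ⟨t, mt⟩) (w := ⟨w, mw⟩)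
    (fun l hl => hrel' l (by simp [relsPos, hl]))
  have hm := Subgroup.card_mul_index (Subgroup.closure
    ({⟨a, ma⟩, ⟨b, mb⟩, ⟨t, mt⟩} : Set K))
  rw [← hm]
  constructor
  · exact mul_ne_zero h120.1 h0
  · calc _ ≤ 120 * 1463 := Nat.mul_le_mul h120.2 h1
      _ = 175560 := by norm_num

/-- The collapse of a variant of the presentation. -/
theorem mem_of_collapse (C : Cert) (hk : C.k = 6) (rels : List (List Nat))
    (hrelk : ∀ l ∈ rels, ∀ z ∈ l, z < C.k) (wit : Nat → Nat × Nat × Bool)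
    (h1 : chkRelRots C inv6 rels wit = true) (h2 : chkSubRots C subs3 = true) (hC : Checked C)
    (hcount : C.countRoots C.N = 1) (hA : ∀ l ∈ relsA120, l ∈ rels)
    {a b t w : Γ} (hrel : ∀ l ∈ rels, prodA (E6 a b t w) l = 1) :
    w ∈ Subgroup.closure ({a, b, t} : Set Γ) := by
  set K := Subgroup.closure ({a, b, t, w} : Set Γ) with hK
  have ma : a ∈ K := Subgroup.subset_closure (by simp)
  have mb : b ∈ K := Subgroup.subset_closure (by simp)
  have mt : t ∈ K := Subgroup.subset_closure (by simp)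
  have mw : w ∈ K := Subgroup.subset_closure (by simp)
  have hrel' : ∀ l ∈ rels, prodA (E6 (⟨a, ma⟩ : K) ⟨b, mb⟩ ⟨t, mt⟩ ⟨w, mw⟩) l = 1 := by
    intro l hl
    apply Subtype.val_injective
    have h3 := map_prodA_E6 K.subtype ⟨a, ma⟩ ⟨b, mb⟩ ⟨t, mt⟩ ⟨w, mw⟩ l
    simp only [Subgroup.coe_subtype] at h3
    simpa [h3] using hrel l hl
  have hgen : Subgroup.closure ({⟨a, ma⟩, ⟨b, mb⟩, ⟨t, mt⟩, ⟨w, mw⟩} : Set K) = ⊤ := by
    have h2 := Subgroup.closure_closure_coe_preimage (k := ({a, b, t, w} : Set Γ))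
    rw [eq_top_iff]
    rw [← hK] at h2
    rw [← h2, Subgroup.closure_le]
    rintro ⟨x, hx⟩ h
    rcases h with h | h | h | h
    · have h' : (⟨x, hx⟩ : K) = ⟨a, ma⟩ := Subtype.ext h
      rw [h']
      exact Subgroup.subset_closure (by simp)
    · have h' : (⟨x, hx⟩ : K) = ⟨b, mb⟩ := Subtype.ext h
      rw [h']
      exact Subgroup.subset_closure (by simp)
    · have h' : (⟨x, hx⟩ : K) = ⟨t, mt⟩ := Subtype.ext h
      rw [h']
      exact Subgroup.subset_closure (by simp)
    · have h' : (⟨x, hx⟩ : K) = ⟨w, mw⟩ := Subtype.ext h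
      rw [h']
      exact Subgroup.subset_closure (by simp)
  have ha : (⟨a, ma⟩ : K) * ⟨a, ma⟩ = 1 := by
    have := hrel' [0, 0] (hA _ (by simp [relsA120]))
    simpa [E6] using this
  have ht : (⟨t, mt⟩ : K) * ⟨t, mt⟩ = 1 := by
    have := hrel' [3, 3] (hA _ (by simp [relsA120]))
    simpa [E6] using this
  obtain ⟨h0, h3⟩ := index_bound C hk rels hrelk wit h1 h2 hC ha ht hgen hrel'
  rw [hcount] at h3
  have hi : (Subgroup.closure ({⟨a, ma⟩, ⟨b, mb⟩, ⟨t, mt⟩} : Set K)).index = 1 := by omega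
  rw [Subgroup.index_eq_one] at hi
  have hw : (⟨w, mw⟩ : K) ∈ Subgroup.closure ({⟨a, ma⟩, ⟨b, mb⟩, ⟨t, mt⟩} : Set K) := by
    rw [hi]
    trivial
  have h4 := Subgroup.mem_map_of_mem K.subtype hw
  rw [MonoidHom.map_closure] at h4
  have h5 : (K.subtype '' {⟨a, ma⟩, ⟨b, mb⟩, ⟨t, mt⟩} : Set Γ) = {a, b, t} := by
    simp [Set.image_insert_eq]
  rw [h5] at h4
  exact h4

theorem mem_of_col1 {a b t w : Γ} (hrel : ∀ l ∈ relsCol1, prodA (E6 a b t w) l = 1) :
    w ∈ Subgroup.closure ({a, b, t} : Set Γ) :=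
  mem_of_collapse Col1.cert rfl relsCol1 (by decide +kernel) Col1.witT.get Col1.h1 Col1.h2
    Col1.hchecked Col1.hcount (by decide +kernel) hrel

theorem mem_of_col2 {a b t w : Γ} (hrel : ∀ l ∈ relsCol2, prodA (E6 a b t w) l = 1) :
    w ∈ Subgroup.closure ({a, b, t} : Set Γ) :=
  mem_of_collapse Col2.cert rfl relsCol2 (by decide +kernel) Col2.witT.get Col2.h1 Col2.h2
    Col2.hchecked Col2.hcount (by decide +kernel) hrel

theorem mem_of_col3 {a b t w : Γ} (hrel : ∀ l ∈ relsCol3, prodA (E6 a b t w) l = 1) :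
    w ∈ Subgroup.closure ({a, b, t} : Set Γ) :=
  mem_of_collapse Col3.cert rfl relsCol3 (by decide +kernel) Col3.witT.get Col3.h1 Col3.h2
    Col3.hchecked Col3.hcount (by decide +kernel) hrel

end Cfsg.Agent.Lib.J1Rec.Index
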