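import Cfsg.Agent.Lib.PermComp.Spor.J1
import Cfsg.Agent.Lib.J1Rec.Index

/-!
# The relators in the Janko group, and the recognition from a set of relators
-/

set_option autoImplicit false
set_option maxRecDepth 100000

namespace Cfsg.Agent.Lib.J1Rec.JSide

open Cfsg Cfsg.Spor Cfsg.Agent.Lib.TC.Core Cfsg.Agent.Lib.J1Rec.Rels Cfsg.Agent.Lib.J1Rec.Index

open scoped MatrixGroups

/-- Matrices. -/
abbrev Mx : Type := Matrix (Fin 7) (Fin 7) (ZMod 11)

/-- The first generator. -/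
def xJ : J1 := ⟨jankoX, Subgroup.subset_closure (by simp)⟩

/-- The second generator. -/
def yJ : J1 := ⟨jankoY, Subgroup.subset_closure (by simp)⟩

/-- The map to matrices. -/
def Φ : J1 →* Mx := (Units.coeHom Mx).comp J1.subtype

theorem Φ_injective : Function.Injective Φ := by
  intro x y h
  exact Subtype.ext (Units.ext h)

theorem Φ_x : Φ xJ = jankoMatrixX := rfl

theorem Φ_y : Φ yJ = jankoMatrixY := rfl

/-- A word in the two generators. -/
def wd : List Bool → J1
  | [] => 1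
  | z :: l => (if z then yJ else xJ) * wd l

/-- A word in the two generators, as a matrix. -/
def wdM : List Bool → Mx
  | [] => 1
  | z :: l => (if z then jankoMatrixY else jankoMatrixX) * wdM l

theorem Φ_wd (l : List Bool) : Φ (wd l) = wdM l := by
  induction l with
  | nil => simp [wd, wdM]
  | cons z l ih =>
    cases z <;> simp [wd, wdM, ih, Φ_x, Φ_y]

/-- The matrix of `a`. -/
def mA : Mx :=
  !![2, 9, 8, 3, 6, 10, 2;
     9, 6, 4, 1, 8, 6, 8;
     8, 4, 7, 7, 2, 1, 7;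
     3, 1, 7, 10, 0, 8, 3;
     6, 8, 2, 0, 4, 9, 3;
     10, 6, 1, 8, 9, 10, 2;
     2, 8, 7, 3, 3, 2, 4]

/-- The matrix of `b`. -/
def mB : Mx :=
  !![0, 3, 1, 4, 4, 7, 3;
     4, 6, 8, 0, 10, 9, 1;
     8, 10, 5, 8, 5, 4, 2;
     7, 7, 9, 9, 9, 0, 10;
     10, 5, 9, 9, 3, 2, 8;
     8, 2, 8, 10, 10, 1, 3;
     7, 8, 9, 0, 0, 2, 10]

/-- The matrix of `b⁻¹`. -/
def mBi : Mx :=
  !![0, 4, 8, 7, 10, 8, 7;
     3, 6, 10, 7, 5, 2, 8;
     1, 8, 5, 9, 9, 8, 9;
     4, 0, 8, 9, 9, 10, 0;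
     4, 10, 5, 9, 3, 10, 0;
     7, 9, 4, 0, 2, 1, 2;
     3, 1, 2, 10, 8, 3, 10]

/-- The matrix of `t`. -/
def mT : Mx :=
  !![10, 0, 5, 2, 5, 8, 5;
     0, 10, 2, 3, 2, 1, 2;
     5, 2, 0, 8, 4, 9, 8;
     2, 3, 8, 1, 6, 4, 6;
     5, 2, 4, 6, 4, 7, 8;
     8, 1, 9, 4, 7, 3, 10;
     5, 2, 8, 6, 8, 10, 4]

/-- The matrix of `w`. -/
def mW : Mx :=
  !![5, 1, 4, 2, 9, 5, 6;
     2, 6, 8, 9, 7, 7, 2;
     8, 0, 0, 6, 4, 5, 5;
     7, 4, 7, 5, 9, 5, 8;
     6, 7, 7, 5, 2, 3, 4;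
     4, 0, 3, 10, 5, 0, 4;
     7, 8, 10, 4, 8, 0, 4]

/-- The matrix of `w⁻¹`. -/
def mWi : Mx :=
  !![5, 2, 8, 7, 6, 4, 7;
     1, 6, 0, 4, 7, 0, 8;
     4, 8, 0, 7, 7, 3, 10;
     2, 9, 6, 5, 5, 10, 4;
     9, 7, 4, 9, 2, 5, 8;
     5, 7, 5, 5, 3, 0, 0;
     6, 2, 5, 8, 4, 4, 4]

/-- The element `a`. -/
def aJ : J1 := wd [false, false, false, false, true, false, true, false, false, true, false, true, false, true, true, true, false]

/-- The element `b`. -/
def bJ : J1 := wd [false, false, true, true, false, true, true, false, true, true, false, true, true, false, true, true]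

/-- The element `t`. -/
def tJ : J1 := wd [false, false, true, false, true, true, false, true, true, true, false, true, true, false, false, false, false, true, true, false]

/-- The element `w`. -/
def wJ : J1 := wd [true, false, false, true, true, false, true, false, true, true, true, false, false, false, false]

theorem Φ_a : Φ aJ = mA := by
  rw [aJ, Φ_wd]
  decide +kernel

theorem Φ_b : Φ bJ = mB := by
  rw [bJ, Φ_wd]
  decide +kernel

theorem Φ_t : Φ tJ = mT := by
  rw [tJ, Φ_wd]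
  decide +kernel

theorem Φ_w : Φ wJ = mW := by
  rw [wJ, Φ_wd]
  decide +kernel

theorem Φ_inv {g : J1} {m m' : Mx} (h : Φ g = m) (hm : m * m' = 1) : Φ g⁻¹ = m' := by
  have h1 : Φ g⁻¹ * Φ g = 1 := by rw [← map_mul, inv_mul_cancel, map_one]
  calc Φ g⁻¹ = Φ g⁻¹ * (m * m') := by rw [hm, mul_one]
    _ = (Φ g⁻¹ * Φ g) * m' := by rw [h, mul_assoc]
    _ = m' := by rw [h1, one_mul]

theorem Φ_bi : Φ bJ⁻¹ = mBi := Φ_inv Φ_b (by decide +kernel)

theorem Φ_wi : Φ wJ⁻¹ = mWi := Φ_inv Φ_w (by decide +kernel)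

/-- The matrices of the letters. -/
def EM (c : Nat) : Mx :=
  match c with
  | 0 => mA
  | 1 => mB
  | 2 => mBi
  | 3 => mT
  | 4 => mW
  | 5 => mWi
  | _ => 1

/-- The product of a word, as a matrix. -/
def prodM : List Nat → Mx
  | [] => 1
  | z :: l => prodM l * EM z

theorem Φ_E (c : Nat) : Φ (E6 aJ bJ tJ wJ c) = EM c := by
  rcases c with _ | _ | _ | _ | _ | _ | c
  · exact Φ_a
  · exact Φ_b
  · exact Φ_bi
  · exact Φ_t
  · exact Φ_w
  · exact Φ_wi
  · simp [E6, EM]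

theorem Φ_prodA (l : List Nat) : Φ (prodA (E6 aJ bJ tJ wJ) l) = prodM l := by
  induction l with
  | nil => simp [prodM]
  | cons z l ih => simp [prodM, ih, Φ_E]

theorem relsPos_M : ∀ l ∈ relsPos, prodM l = 1 := by decide +kernel

/-- The relators hold in the Janko group. -/
theorem rel_J : ∀ l ∈ relsPos, prodA (E6 aJ bJ tJ wJ) l = 1 := by
  intro l hl
  apply Φ_injective
  rw [Φ_prodA, relsPos_M l hl, map_one]

/-- The Janko group is generated by the four elements. -/
theorem gen_J : Subgroup.closure ({aJ, bJ, tJ, wJ} : Set J1) = ⊤ := by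
  set K := Subgroup.closure ({aJ, bJ, tJ, wJ} : Set J1) with hK
  have ma : aJ ∈ K := Subgroup.subset_closure (by simp)
  have mb : bJ ∈ K := Subgroup.subset_closure (by simp)
  have mt : tJ ∈ K := Subgroup.subset_closure (by simp)
  have mw : wJ ∈ K := Subgroup.subset_closure (by simp)
  have hx : xJ = wJ⁻¹ * aJ * bJ⁻¹ * wJ⁻¹ * tJ := by
    apply Φ_injective
    simp only [map_mul, Φ_x, Φ_a, Φ_bi, Φ_wi, Φ_t]
    decide +kernel
  have hy : yJ = wJ * wJ * aJ * tJ * wJ * bJ⁻¹ * aJ * wJ := by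
    apply Φ_injective
    simp only [map_mul, Φ_y, Φ_a, Φ_bi, Φ_w, Φ_t]
    decide +kernel
  have mx : xJ ∈ K := by
    rw [hx]
    exact K.mul_mem (K.mul_mem (K.mul_mem (K.mul_mem (K.inv_mem mw) ma) (K.inv_mem mb))
      (K.inv_mem mw)) mt
  have my : yJ ∈ K := by
    rw [hy]
    exact K.mul_mem (K.mul_mem (K.mul_mem (K.mul_mem (K.mul_mem (K.mul_mem (K.mul_mem mw mw) ma)
      mt) mw) (K.inv_mem mb)) ma) mw
  rw [eq_top_iff]
  have h2 := Subgroup.closure_closure_coe_preimage (k := ({jankoX, jankoY} : Set (GL (Fin 7) (ZMod 11))))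
  have h3 : (⊤ : Subgroup J1) = Subgroup.closure
      (((↑) : J1 → GL (Fin 7) (ZMod 11)) ⁻¹' {jankoX, jankoY}) := h2.symm
  rw [h3, Subgroup.closure_le]
  rintro ⟨x, hx'⟩ h
  rcases h with h | h
  · have h' : (⟨x, hx'⟩ : J1) = xJ := Subtype.ext h
    rw [h']
    exact mx
  · have h' : (⟨x, hx'⟩ : J1) = yJ := Subtype.ext h
    rw [h']
    exact my

theorem card_J : Nat.card J1 = 175560 := Cfsg.Agent.Lib.PermComp.Spor.J1.main.1

theorem simple_J : IsSimpleGroup J1 := by
  obtain ⟨e⟩ := Cfsg.Agent.Lib.PermComp.Spor.J1.main.2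
  haveI := Cfsg.Agent.Lib.PermComp.Spor.J1.isSimple_H266
  exact e.isSimpleGroup

variable {G : Type*} [Group G] [Finite G]

/-- The recognition of `J₁` from the relators. -/
theorem iso_of_rels {a b t w : G} (hrel : ∀ l ∈ relsPos, prodA (E6 a b t w) l = 1)
    (hcard : Nat.card G = 175560) (hw : w ≠ 1) : IsoJ1 G := by
  classical
  set pa : G × J1 := (a, aJ) with hpa
  set pb : G × J1 := (b, bJ) with hpb
  set pt : G × J1 := (t, tJ) with hpt
  set pw : G × J1 := (w, wJ) with hpw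
  have hrelP : ∀ l ∈ relsPos, prodA (E6 pa pb pt pw) l = 1 := by
    intro l hl
    refine Prod.ext ?_ ?_
    · have := map_prodA_E6 (MonoidHom.fst G J1) pa pb pt pw l
      simp only [MonoidHom.coe_fst] at this
      rw [Prod.fst_one, this]
      exact hrel l hl
    · have := map_prodA_E6 (MonoidHom.snd G J1) pa pb pt pw l
      simp only [MonoidHom.coe_snd] at this
      rw [Prod.snd_one, this]
      exact rel_J l hl
  obtain ⟨-, hle⟩ := card_closure_pos_le hrelP
  set Γ := Subgroup.closure ({pa, pb, pt, pw} : Set (G × J1)) with hΓ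
  -- the projection to `J₁` is surjective
  let π₂ : Γ →* J1 := (MonoidHom.snd G J1).comp Γ.subtype
  have hsurj : Function.Surjective π₂ := by
    rw [← MonoidHom.range_eq_top]
    have h1 : π₂.range = Γ.map (MonoidHom.snd G J1) := by
      ext x
      constructor
      · rintro ⟨y, rfl⟩
        exact ⟨y.1, y.2, rfl⟩
      · rintro ⟨y, hy, rfl⟩
        exact ⟨⟨y, hy⟩, rfl⟩
    rw [h1, hΓ, MonoidHom.map_closure, ← gen_J]
    congr 1
    simp [Set.image_insert_eq, hpa, hpb, hpt, hpw]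
  have hcΓ : Nat.card Γ ≤ Nat.card J1 := by rw [card_J]; exact hle
  have hbij : Function.Bijective π₂ := hsurj.bijective_of_nat_card_le hcΓ
  let e₂ : Γ ≃* J1 := MulEquiv.ofBijective π₂ hbij
  let π₁ : Γ →* G := (MonoidHom.fst G J1).comp Γ.subtype
  let φ : J1 →* G := π₁.comp e₂.symm.toMonoidHom
  have mw : pw ∈ Γ := Subgroup.subset_closure (by simp)
  have hφw : φ wJ = w := by
    have h1 : e₂.symm wJ = ⟨pw, mw⟩ := by
      rw [MulEquiv.symm_apply_eq]
      rfl
    change π₁ (e₂.symm wJ) = w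
    rw [h1]
    rfl
  have hinj : Function.Injective φ := by
    haveI := simple_J
    have hker := IsSimpleGroup.eq_bot_or_eq_top_of_normal φ.ker φ.normal_ker
    rcases hker with h | h
    · exact (MonoidHom.ker_eq_bot_iff φ).1 h
    · exfalso
      have : wJ ∈ φ.ker := by rw [h]; trivial
      rw [MonoidHom.mem_ker, hφw] at this
      exact hw this
  have hc2 : Nat.card G ≤ Nat.card J1 := by rw [card_J, hcard]
  have hbφ : Function.Bijective φ := hinj.bijective_of_nat_card_le hc2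
  exact ⟨(MulEquiv.ofBijective φ hbφ).symm⟩

end Cfsg.Agent.Lib.J1Rec.JSide
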