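import Cfsg.Agent.Lib.J1Rec.Index

/-!
# The relators as products
-/

set_option autoImplicit false
set_option maxRecDepth 100000

namespace Cfsg.Agent.Lib.J1Rec.Words

open Cfsg.Agent.Lib.TC.Core Cfsg.Agent.Lib.J1Rec.Rels Cfsg.Agent.Lib.J1Rec.Index

variable {Γ : Type*} [Group Γ]

theorem last_pos {a b t w : Γ} (ha : a⁻¹ = a)
    (h : ((a * b) * w * (a * b)⁻¹ * (a * b * a * b⁻¹ * a * b * a * b⁻¹) * ((a * b) * w * (a * b)⁻¹)⁻¹) * b =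
      b * ((a * b) * w * (a * b)⁻¹ * (a * b * a * b⁻¹ * a * b * a * b⁻¹) * ((a * b) * w * (a * b)⁻¹)⁻¹)) :
    prodA (E6 a b t w) rPos = 1 := by
  set X := (a * b) * w * (a * b)⁻¹ * (a * b * a * b⁻¹ * a * b * a * b⁻¹) * ((a * b) * w * (a * b)⁻¹)⁻¹ with hX
  have h1 : prodA (E6 a b t w) rPos = X * b * X⁻¹ * b⁻¹ := by
    simp only [rPos, prodA_cons, prodA_nil, E6, hX, mul_inv_rev, inv_inv, ha, one_mul, mul_assoc]
  rw [h1, h]
  group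

theorem last_col1 {a b t w : Γ} (ha : a⁻¹ = a)
    (h : ((a * b) * w * (a * b)⁻¹ * (a * b⁻¹ * a * b⁻¹ * a) * ((a * b) * w * (a * b)⁻¹)⁻¹) * b =
      b * ((a * b) * w * (a * b)⁻¹ * (a * b⁻¹ * a * b⁻¹ * a) * ((a * b) * w * (a * b)⁻¹)⁻¹)) :
    prodA (E6 a b t w) rCol1 = 1 := by
  set X := (a * b) * w * (a * b)⁻¹ * (a * b⁻¹ * a * b⁻¹ * a) * ((a * b) * w * (a * b)⁻¹)⁻¹ with hX
  have h1 : prodA (E6 a b t w) rCol1 = X * b * X⁻¹ * b⁻¹ := by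
    simp only [rCol1, prodA_cons, prodA_nil, E6, hX, mul_inv_rev, inv_inv, ha, one_mul, mul_assoc]
  rw [h1, h]
  group

theorem last_col2 {a b t w : Γ} (ha : a⁻¹ = a)
    (h : ((a * b) * (w * w * w) * (a * b)⁻¹ * (b * a * b⁻¹ * a * b) * ((a * b) * (w * w * w) * (a * b)⁻¹)⁻¹) * b =
      b * ((a * b) * (w * w * w) * (a * b)⁻¹ * (b * a * b⁻¹ * a * b) * ((a * b) * (w * w * w) * (a * b)⁻¹)⁻¹)) :
    prodA (E6 a b t w) rCol2 = 1 := by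
  set X := (a * b) * (w * w * w) * (a * b)⁻¹ * (b * a * b⁻¹ * a * b) * ((a * b) * (w * w * w) * (a * b)⁻¹)⁻¹ with hX
  have h1 : prodA (E6 a b t w) rCol2 = X * b * X⁻¹ * b⁻¹ := by
    simp only [rCol2, prodA_cons, prodA_nil, E6, hX, mul_inv_rev, inv_inv, ha, one_mul, mul_assoc]
  rw [h1, h]
  group

theorem last_col3 {a b t w : Γ} (ha : a⁻¹ = a)
    (h : ((a * b) * (w * w * w) * (a * b)⁻¹ * (a * b⁻¹ * a * b⁻¹) * ((a * b) * (w * w * w) * (a * b)⁻¹)⁻¹) * b =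
      b * ((a * b) * (w * w * w) * (a * b)⁻¹ * (a * b⁻¹ * a * b⁻¹) * ((a * b) * (w * w * w) * (a * b)⁻¹)⁻¹)) :
    prodA (E6 a b t w) rCol3 = 1 := by
  set X := (a * b) * (w * w * w) * (a * b)⁻¹ * (a * b⁻¹ * a * b⁻¹) * ((a * b) * (w * w * w) * (a * b)⁻¹)⁻¹ with hX
  have h1 : prodA (E6 a b t w) rCol3 = X * b * X⁻¹ * b⁻¹ := by
    simp only [rCol3, prodA_cons, prodA_nil, E6, hX, mul_inv_rev, inv_inv, ha, one_mul, mul_assoc]
  rw [h1, h]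
  group

theorem rels_W {a b t w : Γ} (h7 : w ^ 7 = 1)
    (h8 : w * t * w⁻¹ * (b * a * b * a * b⁻¹ * a * b⁻¹) = 1) (h9 : b * w * b⁻¹ = w * w) :
    ∀ l ∈ relsW, prodA (E6 a b t w) l = 1 := by
  intro l hl
  simp only [relsW, List.mem_cons, List.not_mem_nil, or_false] at hl
  rcases hl with rfl | rfl | rfl
  · simp only [prodA_cons, prodA_nil, E6, one_mul]
    rw [← h7]
    simp only [pow_succ, pow_zero, one_mul]
  · simp only [prodA_cons, prodA_nil, E6, one_mul]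
    rw [← h8]
    simp only [mul_assoc]
  · simp only [prodA_cons, prodA_nil, E6, one_mul]
    rw [h9]
    group

end Cfsg.Agent.Lib.J1Rec.Words
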