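import Cfsg.Agent.Lib.J1Rec.Z
import Cfsg.Agent.Lib.J1Rec.JSide
import Cfsg.Agent.Lib.J1Rec.Words

/-!
# The recognition of `J₁` from the centralizer of an involution
-/

set_option autoImplicit false
set_option maxRecDepth 100000

namespace Cfsg.Agent.Lib.J1Rec.Final

open Cfsg Cfsg.Spor Cfsg.Agent.Lib.J1.Alt Cfsg.Agent.Lib.J1.Local Cfsg.Agent.Lib.J1Rec.AData
  Cfsg.Agent.Lib.TC.Core Cfsg.Agent.Lib.J1Rec.Rels Cfsg.Agent.Lib.J1Rec.Index
  Cfsg.Agent.Lib.J1Rec.Words Subgroup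

theorem relsA120_A : ∀ l ∈ relsA120, prodA (E6 aA y0 t0 1) l = 1 := by decide +kernel

theorem w3_sq : w3 * w3 = 1 := by decide +kernel

theorem f₀_t0 : f₀ * t0 = cA * (w1 * t0) * cA⁻¹ := by decide +kernel

theorem w1_ne_t0 : w1 ≠ t0 := by decide +kernel

theorem cA_eq : cA = aA * y0 := rfl

variable {G : Type*} [Group G] (S : Setup G) {w : G}

/-- The relations among the conjugates of `t`. -/
theorem conj_rels (hwt : w * S.t * w⁻¹ = S.f w1) (hbw : S.f y0 * w * (S.f y0)⁻¹ = w * w) :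
    (w * w) * S.t * (w * w)⁻¹ = S.f w3 ∧ (w * w * (w * w)) * S.t * (w * w * (w * w))⁻¹ = S.f w2 ∧
    w⁻¹ * S.t * w = S.f (w3 * t0) ∧ (w * w * w) * S.t * (w * w * w)⁻¹ = S.f (w1 * t0) := by
  set b := S.f y0 with hb
  have hbt : b⁻¹ * S.t * b = S.t := by
    have h : b * S.t = S.t * b := S.comm_t y0
    calc b⁻¹ * S.t * b = b⁻¹ * (S.t * b) := by group
      _ = b⁻¹ * (b * S.t) := by rw [h]
      _ = S.t := by group
  have e2 : (w * w) * S.t * (w * w)⁻¹ = S.f w3 := by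
    rw [← hbw]
    calc (b * w * b⁻¹) * S.t * (b * w * b⁻¹)⁻¹ = b * (w * (b⁻¹ * S.t * b) * w⁻¹) * b⁻¹ := by group
      _ = b * S.f w1 * b⁻¹ := by rw [hbt, hwt]
      _ = S.f w3 := by
        have e : y0 * w1 * y0⁻¹ = w3 := b_w1
        rw [← e, map_mul, map_mul, map_inv]
  have hbw2 : b * (w * w) * b⁻¹ = w * w * (w * w) := by
    calc b * (w * w) * b⁻¹ = (b * w * b⁻¹) * (b * w * b⁻¹) := by group
      _ = _ := by rw [hbw]
  have e4 : (w * w * (w * w)) * S.t * (w * w * (w * w))⁻¹ = S.f w2 := by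
    rw [← hbw2]
    calc (b * (w * w) * b⁻¹) * S.t * (b * (w * w) * b⁻¹)⁻¹
        = b * ((w * w) * (b⁻¹ * S.t * b) * (w * w)⁻¹) * b⁻¹ := by group
      _ = b * S.f w3 * b⁻¹ := by rw [hbt, e2]
      _ = S.f w2 := by
        have e : y0 * w3 * y0⁻¹ = w2 := b_w3
        rw [← e, map_mul, map_mul, map_inv]
  have hprod : S.f w1 * S.f w3 * S.f w2 = 1 := by
    rw [← map_mul, ← map_mul, w_prod, map_one]
  have htinv : S.t⁻¹ = S.t := inv_eq_of_mul_eq_one_left S.t_sq
  have hw3inv : (S.f w3)⁻¹ = S.f w3 := by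
    apply inv_eq_of_mul_eq_one_left
    rw [← map_mul, w3_sq, map_one]
  have hw1inv : (S.f w1)⁻¹ = S.f w1 := by
    apply inv_eq_of_mul_eq_one_left
    rw [← map_mul, w1_sq, map_one]
  refine ⟨e2, e4, ?_, ?_⟩
  · have h1 : (w⁻¹ * S.t * w) * S.t * S.f w3 = 1 := by
      have a1 : w⁻¹ * S.t * w = (w * w)⁻¹ * S.f w1 * (w * w) := by rw [← hwt]; group
      have a2 : S.t = (w * w)⁻¹ * S.f w3 * (w * w) := by rw [← e2]; group
      have a3 : S.f w3 = (w * w)⁻¹ * S.f w2 * (w * w) := by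
        rw [← e2, ← e4]
        generalize w * w = x
        group
      calc (w⁻¹ * S.t * w) * S.t * S.f w3
          = ((w * w)⁻¹ * S.f w1 * (w * w)) * ((w * w)⁻¹ * S.f w3 * (w * w)) *
              ((w * w)⁻¹ * S.f w2 * (w * w)) := by rw [← a1, ← a2, ← a3]
        _ = (w * w)⁻¹ * (S.f w1 * S.f w3 * S.f w2) * (w * w) := by group
        _ = 1 := by rw [hprod]; group
    have h2 : w⁻¹ * S.t * w = (S.t * S.f w3)⁻¹ := by
      apply eq_inv_of_mul_eq_one_left
      rw [← mul_assoc]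
      exact h1
    rw [h2, mul_inv_rev, htinv, hw3inv, map_mul, S.f_t0]
  · have h1 : S.t * S.f w1 * ((w * w * w) * S.t * (w * w * w)⁻¹) = 1 := by
      have a1 : S.t = w⁻¹ * S.f w1 * w := by rw [← hwt]; group
      have a2 : S.f w1 = w⁻¹ * S.f w3 * w := by
        rw [← hwt, ← e2]
        group
      have a3 : (w * w * w) * S.t * (w * w * w)⁻¹ = w⁻¹ * S.f w2 * w := by
        rw [← e4]
        group
      calc S.t * S.f w1 * ((w * w * w) * S.t * (w * w * w)⁻¹)
          = (w⁻¹ * S.f w1 * w) * (w⁻¹ * S.f w3 * w) * (w⁻¹ * S.f w2 * w) := by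
            rw [← a1, ← a2, ← a3]
        _ = w⁻¹ * (S.f w1 * S.f w3 * S.f w2) * w := by group
        _ = 1 := by rw [hprod]; group
    have h2 : (w * w * w) * S.t * (w * w * w)⁻¹ = (S.t * S.f w1)⁻¹ :=
      eq_inv_of_mul_eq_one_right h1
    rw [h2, mul_inv_rev, htinv, hw1inv, map_mul, S.f_t0]

/-- A branch: the element of order five, seen in the centralizer of `t`. -/
theorem branch {n ψ z : G} {g₀ : A} (hn1 : n * S.t * n⁻¹ = ψ) (hn2 : n⁻¹ * S.t * n = S.f g₀)
    (hz : z * ψ = ψ * z) (hzt : S.t * z * S.t⁻¹ = z⁻¹) (z5 : z ^ 5 = 1) (zne : z ≠ 1) :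
    ∃ α : A, α ≠ 1 ∧ α ^ 5 = 1 ∧ g₀ * α * g₀⁻¹ = α⁻¹ ∧ n * S.f α * n⁻¹ = z := by
  have hc : (n⁻¹ * z * n) * S.t = S.t * (n⁻¹ * z * n) := by
    have h1 : n⁻¹ * z * n * (n⁻¹ * ψ * n) = n⁻¹ * ψ * n * (n⁻¹ * z * n) := by
      calc n⁻¹ * z * n * (n⁻¹ * ψ * n) = n⁻¹ * (z * ψ) * n := by group
        _ = n⁻¹ * (ψ * z) * n := by rw [hz]
        _ = _ := by group
    have h2 : n⁻¹ * ψ * n = S.t := by rw [← hn1]; group
    rwa [h2] at h1
  obtain ⟨α, hα⟩ := S.range _ hc
  have hnα : n * S.f α * n⁻¹ = z := by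
    rw [hα]
    group
  refine ⟨α, ?_, ?_, ?_, hnα⟩
  · rintro rfl
    apply zne
    rw [← hnα, map_one]
    group
  · apply S.f_inj
    have h5 : (n⁻¹ * z * n) ^ 5 = n⁻¹ * z ^ 5 * n := by
      have h6 := conj_pow (a := n⁻¹) (b := z) (i := 5)
      rwa [inv_inv] at h6
    rw [map_pow, hα, map_one, h5, z5]
    group
  · apply S.f_inj
    rw [map_mul, map_mul, map_inv, map_inv, ← hn2, hα]
    have h1 : n⁻¹ * S.t * n * (n⁻¹ * z * n) * (n⁻¹ * S.t * n)⁻¹ = n⁻¹ * (S.t * z * S.t⁻¹) * n := by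
      group
    rw [h1, hzt]
    group

/-- The commutation from a power. -/
theorem comm_of_pow {n z b : G} {α y : A} {k : ℕ} (hnα : n * S.f α * n⁻¹ = z) (hzb : z * b = b * z)
    (hy : α ^ k = y) : (n * S.f y * n⁻¹) * b = b * (n * S.f y * n⁻¹) := by
  have h1 : n * S.f y * n⁻¹ = z ^ k := by
    rw [← hy, map_pow, ← conj_pow, hnα]
  rw [h1]
  exact ((Commute.pow_left hzb k : Commute (z ^ k) b)).eq

variable [Finite G] [IsSimpleGroup G]

/-- The main theorem for a setup with an element of order seven. -/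
theorem main (hodd : ¬ 2 ∣ (centralizer ({S.t} : Set G)).index) (hcard : Nat.card G = 175560)
    (h7 : w ^ 7 = 1) (hwt : w * S.t * w⁻¹ = S.f w1) (hbw : S.f y0 * w * (S.f y0)⁻¹ = w * w) :
    IsoJ1 G := by
  obtain ⟨z, z5, zne, hzd, hzt, hzφ⟩ := Z.exists_z S hodd hcard
  obtain ⟨e2, e4, eneg, e3⟩ := conj_rels S hwt hbw
  set a := S.f aA with ha
  set b := S.f y0 with hb
  set c := S.f cA with hc
  have hcab : c = a * b := by rw [hc, cA_eq, map_mul]
  have hainv : a⁻¹ = a := by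
    apply inv_eq_of_mul_eq_one_left
    rw [ha, ← map_mul, a_sq, map_one]
  have hct : c⁻¹ * S.t * c = S.t := by
    have h : c * S.t = S.t * c := S.comm_t cA
    calc c⁻¹ * S.t * c = c⁻¹ * (S.t * c) := by group
      _ = c⁻¹ * (c * S.t) := by rw [h]
      _ = S.t := by group
  have hconjc : ∀ x : A, c * S.f x * c⁻¹ = S.f (cA * x * cA⁻¹) := by
    intro x
    rw [map_mul, map_mul, map_inv]
  -- the base relators
  have hbase : ∀ l ∈ relsA120, prodA (E6 a b S.t w) l = 1 := by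
    intro l hl
    have h1 := map_prodA_E6 S.f aA y0 t0 1 l
    rw [relsA120_A l hl, map_one, S.f_t0] at h1
    refine (prodA_congr l ?_).trans h1.symm
    intro z' hz'
    have hz4 : z' < 4 := relsA120_lt l hl z' hz'
    interval_cases z' <;> rfl
  have hW : ∀ l ∈ relsW, prodA (E6 a b S.t w) l = 1 := by
    apply rels_W h7 _ hbw
    rw [hwt]
    have e : b * a * b * a * b⁻¹ * a * b⁻¹ = S.f w1 := by
      have e' : y0 * aA * y0 * aA * y0⁻¹ * aA * y0⁻¹ = w1 := word_w1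
      rw [← e']
      simp only [map_mul, map_inv, ha, hb]
    rw [e, ← map_mul, w1_sq, map_one]
  have hall : ∀ r : List Nat, prodA (E6 a b S.t w) r = 1 → ∀ l ∈ relsA120 ++ relsW ++ [r],
      prodA (E6 a b S.t w) l = 1 := by
    intro r hr l hl
    simp only [List.mem_append, List.mem_singleton] at hl
    rcases hl with (hl | hl) | rfl
    · exact hbase l hl
    · exact hW l hl
    · exact hr
  have hwne : w ≠ 1 := by
    rintro rfl
    have h1 : S.t = S.f w1 := by simpa using hwt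
    apply w1_ne_t0
    apply S.f_inj
    rw [← h1, S.f_t0]
  -- the collapse
  have hcol : w ∈ closure ({a, b, S.t} : Set G) → False := by
    intro hmem
    have hle : closure ({a, b, S.t} : Set G) ≤ centralizer ({S.t} : Set G) := by
      rw [closure_le]
      rintro x (rfl | rfl | rfl)
      · exact mem_centralizer_singleton_iff.2 (S.comm_t aA)
      · exact mem_centralizer_singleton_iff.2 (S.comm_t y0)
      · exact mem_centralizer_singleton_iff.2 rfl
    have h1 : w * S.t = S.t * w := mem_centralizer_singleton_iff.1 (hle hmem)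
    have h2 : S.f w1 = S.t := by
      rw [← hwt, h1]
      group
    apply w1_ne_t0
    apply S.f_inj
    rw [h2, S.f_t0]
  -- the branches
  rcases hzφ with hφ | hφ
  · -- positive branch
    have hn1 : (c * w * c⁻¹) * S.t * (c * w * c⁻¹)⁻¹ = S.f f₀ := by
      calc (c * w * c⁻¹) * S.t * (c * w * c⁻¹)⁻¹ = c * (w * (c⁻¹ * S.t * c) * w⁻¹) * c⁻¹ := by group
        _ = c * S.f w1 * c⁻¹ := by rw [hct, hwt]
        _ = S.f f₀ := hconjc w1
    have hn2 : (c * w * c⁻¹)⁻¹ * S.t * (c * w * c⁻¹) = S.f gP := by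
      calc (c * w * c⁻¹)⁻¹ * S.t * (c * w * c⁻¹) = c * (w⁻¹ * (c⁻¹ * S.t * c) * w) * c⁻¹ := by group
        _ = c * S.f (w3 * t0) * c⁻¹ := by rw [hct, eneg]
        _ = S.f gP := hconjc _
    have hzφ' : z * S.f f₀ = S.f f₀ * z := Z.comm_of_conj hφ
    obtain ⟨α, hα1, hα5, hαi, hnα⟩ := branch S hn1 hn2 hzφ' hzt z5 zne
    obtain ⟨k, hk | hk⟩ := branch_pos α ⟨hα1, hα5, hαi⟩
    · have h1 := comm_of_pow S hnα hzd hk
      have hr : prodA (E6 a b S.t w) rPos = 1 := by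
        apply last_pos hainv
        have e : a * b * a * b⁻¹ * a * b * a * b⁻¹ = S.f y1 := by
          simp only [y1, map_mul, map_inv, ha, hb]
        rw [e, ← hcab]
        exact h1
      exact JSide.iso_of_rels (hall _ hr) hcard hwne
    · have h1 := comm_of_pow S hnα hzd hk
      have hr : prodA (E6 a b S.t w) rCol1 = 1 := by
        apply last_col1 hainv
        have e : a * b⁻¹ * a * b⁻¹ * a = S.f y2 := by
          simp only [y2, map_mul, map_inv, ha, hb]
        rw [e, ← hcab]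
        exact h1
      exact (hcol (mem_of_col1 (hall _ hr))).elim
  · -- negative branch
    have hn1 : (c * (w * w * w) * c⁻¹) * S.t * (c * (w * w * w) * c⁻¹)⁻¹ = S.f f₀ * S.t := by
      calc (c * (w * w * w) * c⁻¹) * S.t * (c * (w * w * w) * c⁻¹)⁻¹
          = c * ((w * w * w) * (c⁻¹ * S.t * c) * (w * w * w)⁻¹) * c⁻¹ := by
            generalize w * w * w = x
            group
        _ = c * S.f (w1 * t0) * c⁻¹ := by rw [hct, e3]
        _ = S.f (cA * (w1 * t0) * cA⁻¹) := hconjc _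
        _ = S.f f₀ * S.t := by rw [← f₀_t0, map_mul, S.f_t0]
    have hinv3 : (w * w * w)⁻¹ = w * w * (w * w) := by
      apply inv_eq_of_mul_eq_one_left
      rw [← h7]
      simp only [pow_succ, pow_zero, one_mul, mul_assoc]
    have hn2 : (c * (w * w * w) * c⁻¹)⁻¹ * S.t * (c * (w * w * w) * c⁻¹) = S.f gN := by
      calc (c * (w * w * w) * c⁻¹)⁻¹ * S.t * (c * (w * w * w) * c⁻¹)
          = c * ((w * w * w)⁻¹ * (c⁻¹ * S.t * c) * (w * w * w)⁻¹⁻¹) * c⁻¹ := by
            generalize w * w * w = x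
            group
        _ = c * ((w * w * (w * w)) * S.t * (w * w * (w * w))⁻¹) * c⁻¹ := by rw [hct, hinv3]
        _ = c * S.f w2 * c⁻¹ := by rw [e4]
        _ = S.f gN := hconjc _
    have hzφ' : z * (S.f f₀ * S.t) = (S.f f₀ * S.t) * z := by
      apply Z.comm_of_conj
      calc (S.f f₀ * S.t) * z * (S.f f₀ * S.t)⁻¹ = S.f f₀ * (S.t * z * S.t⁻¹) * (S.f f₀)⁻¹ := by group
        _ = S.f f₀ * z⁻¹ * (S.f f₀)⁻¹ := by rw [hzt]
        _ = (S.f f₀ * z * (S.f f₀)⁻¹)⁻¹ := by group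
        _ = z := by rw [hφ, inv_inv]
    obtain ⟨α, hα1, hα5, hαi, hnα⟩ := branch S hn1 hn2 hzφ' hzt z5 zne
    obtain ⟨k, hk | hk⟩ := branch_neg α ⟨hα1, hα5, hαi⟩
    · have h1 := comm_of_pow S hnα hzd hk
      have hr : prodA (E6 a b S.t w) rCol2 = 1 := by
        apply last_col2 hainv
        have e : b * a * b⁻¹ * a * b = S.f y3 := by
          simp only [y3, map_mul, map_inv, ha, hb]
        rw [e, ← hcab]
        exact h1
      exact (hcol (mem_of_col2 (hall _ hr))).elim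
    · have h1 := comm_of_pow S hnα hzd hk
      have hr : prodA (E6 a b S.t w) rCol3 = 1 := by
        apply last_col3 hainv
        have e : a * b⁻¹ * a * b⁻¹ = S.f y4 := by
          simp only [y4, map_mul, map_inv, ha, hb]
        rw [e, ← hcab]
        exact h1
      exact (hcol (mem_of_col3 (hall _ hr))).elim

end Cfsg.Agent.Lib.J1Rec.Final
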