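namespace Cfsg.Agent.Lib.J1Rec.Rels

/-- The inverse column. -/
def inv6 (c : Nat) : Nat :=
  match c with
  | 0 => 0
  | 1 => 2
  | 2 => 1
  | 3 => 3
  | 4 => 5
  | 5 => 4
  | n => n

/-- The inverse column. -/
def inv4 (c : Nat) : Nat :=
  match c with
  | 0 => 0
  | 1 => 2
  | 2 => 1
  | 3 => 3
  | n => n

/-- The subgroup words. -/
def subs3 : List (List Nat) := [[0],[1],[3]]

/-- The empty list of subgroup words. -/
def subs0 : List (List Nat) := []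

/-- The relators of `2 × A₅`. -/
def relsA120 : List (List Nat) :=
  [[0,0],
   [1,1,1],
   [1,0,1,0,1,0,1,0,1,0],
   [3,3],
   [0,3,0,3],
   [2,3,1,3]]

/-- The relators on `w`. -/
def relsW : List (List Nat) :=
  [[4,4,4,4,4,4,4],
   [2,0,2,0,1,0,1,5,3,4],
   [5,5,2,4,1]]

/-- The last relator. -/
def rPos : List Nat :=
  [2,0,2,5,1,0,0,2,0,1,0,2,0,1,0,2,4,1,0,1,0,2,5,1,0,2,0,1,0,2,0,1,0,0,2,4,1,0]

/-- The relators. -/
def relsPos : List (List Nat) := relsA120 ++ relsW ++ [rPos]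

/-- The last relator. -/
def rCol1 : List Nat :=
  [2,0,2,5,1,0,0,1,0,1,0,0,2,4,1,0,1,0,2,5,1,0,0,2,0,2,0,0,2,4,1,0]

/-- The relators. -/
def relsCol1 : List (List Nat) := relsA120 ++ relsW ++ [rCol1]

/-- The last relator. -/
def rCol2 : List Nat :=
  [2,0,2,5,5,5,1,0,2,0,1,0,2,0,2,4,4,4,1,0,1,0,2,5,5,5,1,0,1,0,2,0,1,0,2,4,4,4,1,0]

/-- The relators. -/
def relsCol2 : List (List Nat) := relsA120 ++ relsW ++ [rCol2]

/-- The last relator. -/
def rCol3 : List Nat :=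
  [2,0,2,5,5,5,1,0,0,1,0,1,0,2,4,4,4,1,0,1,0,2,5,5,5,1,0,2,0,2,0,0,2,4,4,4,1,0]

/-- The relators. -/
def relsCol3 : List (List Nat) := relsA120 ++ relsW ++ [rCol3]

end Cfsg.Agent.Lib.J1Rec.Rels
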