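import Cfsg.Agent.Lib.J1.Local
import Cfsg.Agent.Lib.J1Rec.AData

/-!
# The element of order seven normalizing the Sylow subgroup
-/

set_option autoImplicit false
set_option maxRecDepth 100000
set_option synthInstance.maxSize 1000
set_option synthInstance.maxHeartbeats 400000

namespace Cfsg.Agent.Lib.J1Rec.W

open Cfsg.Agent.Lib.J1.Alt Cfsg.Agent.Lib.J1.Local Cfsg.Agent.Lib.J1Rec.AData Subgroup

/-- The transposition. -/
def σ : Equiv.Perm (Fin 5) := Equiv.swap 0 1

/-- The twist of `A`. -/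
def τF (x : A) : A :=
  (x.1, ⟨σ * x.2.1 * σ⁻¹, (inferInstance : (alternatingGroup (Fin 5)).Normal).conj_mem _ x.2.2 σ⟩)

/-- The twist of `A`, as a homomorphism. -/
def τ : A →* A where
  toFun := τF
  map_one' := by decide +kernel
  map_mul' := by
    intro x y
    refine Prod.ext rfl (Subtype.ext ?_)
    change σ * ((x.2.1 : Equiv.Perm (Fin 5)) * y.2.1) * σ⁻¹ =
      (σ * (x.2.1 : Equiv.Perm (Fin 5)) * σ⁻¹) * (σ * (y.2.1 : Equiv.Perm (Fin 5)) * σ⁻¹)
    group

theorem τ_τ : ∀ x : A, τ (τ x) = x := by decide +kernel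

theorem τ_t0 : τ t0 = t0 := by decide +kernel

theorem τ_y0 : τ y0 = y0⁻¹ := by decide +kernel

theorem τ_w1 : τ w1 = w1 := by decide +kernel

theorem normal_inv : ∀ a : A, (∀ v ∈ V8F, a * v * a⁻¹ ∈ V8F) → ∀ v ∈ V8F, a⁻¹ * v * a ∈ V8F := by
  decide +kernel

variable {G : Type*} [Group G]

/-- The twist of a setup. -/
def twist (S : Setup G) : Setup G where
  f := S.f.comp τ
  f_inj := by
    intro x y h
    have h1 := S.f_inj h
    rw [← τ_τ x, ← τ_τ y, h1]
  t := S.t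
  f_t0 := by
    rw [MonoidHom.comp_apply, τ_t0, S.f_t0]
  range := by
    intro g hg
    obtain ⟨a, rfl⟩ := S.range g hg
    exact ⟨τ a, by rw [MonoidHom.comp_apply, τ_τ]⟩

theorem t_mem (S : Setup G) : S.t ∈ S.Q := S.mem_Q.2 ⟨t0, V8F_t0, S.f_t0⟩

theorem Q_comm (S : Setup G) {x y : G} (hx : x ∈ S.Q) (hy : y ∈ S.Q) : x * y = y * x := by
  obtain ⟨a, ha, rfl⟩ := S.mem_Q.1 hx
  obtain ⟨b, hb, rfl⟩ := S.mem_Q.1 hy
  rw [← map_mul, ← map_mul, V8F_comm a ha b hb]

variable [Finite G] [IsSimpleGroup G] (S : Setup G)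
  (hodd : ¬ 2 ∣ (centralizer ({S.t} : Set G)).index)

include hodd

theorem fusion {u : G} (hu : u ∈ S.Q) (hne : u ≠ 1) :
    ∃ n ∈ normalizer (S.Q : Set G), n * S.t * n⁻¹ = u := by
  obtain ⟨a, ha, rfl⟩ := S.mem_Q.1 hu
  have hane : a ≠ 1 := by
    rintro rfl
    exact hne (map_one _)
  have hc := S.conj_of_V8 hodd a ha hane
  obtain ⟨g, hg⟩ := isConj_iff.1 hc
  set P : Sylow 2 G := S.isPGroup_Q.toSylow (S.index_Q hodd) with hP
  have hPc : (P : Subgroup G) = S.Q := rfl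
  haveI : IsMulCommutative (P : Subgroup G) :=
    ⟨⟨fun x y => Subtype.ext (Q_comm S x.2 y.2)⟩⟩
  have h1 : g⁻¹⁻¹ * S.t * g⁻¹ ∈ P := by
    rw [inv_inv, hg]
    exact hu
  obtain ⟨n, hn, e⟩ := P.conj_eq_normalizer_conj_of_mem S.t g⁻¹ (t_mem S) h1
  refine ⟨n⁻¹, inv_mem hn, ?_⟩
  rw [inv_inv, hg] at e
  rw [e, inv_inv]

/-- The action by conjugation of the normalizer. -/
theorem card_normalizer : Nat.card (normalizer (S.Q : Set G)) = 168 := by
  classical
  set N := normalizer (S.Q : Set G) with hN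
  letI : MulAction N G := MulAction.compHom G ((ConjAct.toConjAct (G := G)).toMonoidHom.comp N.subtype)
  have hsmul : ∀ (g : N) (x : G), g • x = (g : G) * x * (g : G)⁻¹ := fun g x => rfl
  have horb : MulAction.orbit N S.t = S.f '' ((V8F.erase 1 : Finset A) : Set A) := by
    ext u
    constructor
    · rintro ⟨g, rfl⟩
      change (g : G) * S.t * (g : G)⁻¹ ∈ _
      have h1 : (g : G) * S.t * (g : G)⁻¹ ∈ S.Q := (mem_normalizer_iff.1 g.2 S.t).1 (t_mem S)
      obtain ⟨a, ha, e⟩ := S.mem_Q.1 h1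
      refine ⟨a, ?_, e⟩
      simp only [Finset.coe_erase, Set.mem_sdiff, Finset.mem_coe, Set.mem_singleton_iff]
      refine ⟨ha, ?_⟩
      rintro rfl
      rw [map_one] at e
      apply S.t_ne_one
      have h2 : (g : G) * S.t = (g : G) := by
        calc (g : G) * S.t = ((g : G) * S.t * (g : G)⁻¹) * g := by group
          _ = g := by rw [← e, one_mul]
      exact mul_left_cancel (a := (g : G)) (by rw [h2, mul_one])
    · rintro ⟨a, ha, rfl⟩
      simp only [Finset.coe_erase, Set.mem_sdiff, Finset.mem_coe, Set.mem_singleton_iff] at ha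
      have hne : S.f a ≠ 1 := S.f_ne_one ha.2
      obtain ⟨n, hn, e⟩ := fusion S hodd (S.mem_Q.2 ⟨a, ha.1, rfl⟩) hne
      exact ⟨⟨n, hn⟩, e⟩
  have h7 : (MulAction.orbit N S.t).ncard = 7 := by
    rw [horb, Set.ncard_image_of_injective _ S.f_inj, Set.ncard_coe_finset, V8F_erase_card]
  have hidx := MulAction.index_stabilizer N S.t
  rw [h7] at hidx
  have hst : Nat.card (MulAction.stabilizer N S.t) = 24 := by
    rw [← normal_card]
    rw [← Nat.card_eq_finsetCard]
    symm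
    refine Nat.card_congr (Equiv.ofBijective (fun a => ⟨⟨S.f a.1, ?_⟩, ?_⟩) ⟨?_, ?_⟩)
    · rw [hN, mem_normalizer_iff]
      have ha := (Finset.mem_filter.1 a.2).2
      have ha' := normal_inv a.1 ha
      intro h
      constructor
      · intro hh
        obtain ⟨v, hv, rfl⟩ := S.mem_Q.1 hh
        rw [← map_inv, ← map_mul, ← map_mul]
        exact S.mem_Q.2 ⟨_, ha v hv, rfl⟩
      · intro hh
        obtain ⟨v, hv, e⟩ := S.mem_Q.1 hh
        have : h = S.f (a.1⁻¹ * v * a.1) := by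
          rw [map_mul, map_mul, e, map_inv]
          group
        rw [this]
        exact S.mem_Q.2 ⟨_, ha' v hv, rfl⟩
    · rw [MulAction.mem_stabilizer_iff]
      change S.f a.1 * S.t * (S.f a.1)⁻¹ = S.t
      rw [S.comm_t]
      group
    · intro x y hxy
      have h1 : S.f x.1 = S.f y.1 := congrArg (fun g : MulAction.stabilizer N S.t => ((g : N) : G)) hxy
      exact Subtype.ext (S.f_inj h1)
    · rintro ⟨⟨g, hg⟩, hs⟩
      rw [MulAction.mem_stabilizer_iff] at hs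
      change g * S.t * g⁻¹ = S.t at hs
      have hgt : g * S.t = S.t * g := by
        calc g * S.t = (g * S.t * g⁻¹) * g := by group
          _ = S.t * g := by rw [hs]
      obtain ⟨a, rfl⟩ := S.range g hgt
      refine ⟨⟨a, ?_⟩, rfl⟩
      rw [Finset.mem_filter]
      refine ⟨Finset.mem_univ _, ?_⟩
      intro v hv
      have h1 : S.f a * S.f v * (S.f a)⁻¹ ∈ S.Q :=
        (mem_normalizer_iff.1 hg (S.f v)).1 (S.mem_Q.2 ⟨v, hv, rfl⟩)
      obtain ⟨v', hv', e⟩ := S.mem_Q.1 h1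
      have : v' = a * v * a⁻¹ := by
        apply S.f_inj
        rw [e, map_mul, map_mul, map_inv]
      rw [← this]
      exact hv'
  have := Subgroup.card_mul_index (MulAction.stabilizer N S.t)
  rw [hst, hidx] at this
  omega

omit hodd [IsSimpleGroup G] in
/-- A group of order `q * m` with `q ∤ m` has Sylow `q`-subgroups of order `q`. -/
theorem sylow_card_prime {X : Type*} [Group X] [Finite X] {q m : ℕ} [hq : Fact q.Prime]
    (hc : Nat.card X = q * m) (hm : ¬ q ∣ m) (P : Sylow q X) : Nat.card (P : Subgroup X) = q := by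
  obtain ⟨k, hk⟩ := IsPGroup.iff_card.1 P.isPGroup'
  have h1 := Subgroup.card_mul_index (P : Subgroup X)
  have h2 := P.not_dvd_index
  rw [hk, hc] at h1
  rcases k with _ | _ | k
  · simp only [pow_zero, one_mul] at h1
    exact absurd (h1 ▸ dvd_mul_right q m) h2
  · simpa using hk
  · exfalso
    apply hm
    have h3 : q * (q ^ (k + 1) * (P : Subgroup X).index) = q * m := by rw [← h1]; ring
    have h4 := Nat.eq_of_mul_eq_mul_left hq.out.pos h3
    exact ⟨q ^ k * (P : Subgroup X).index, by rw [← h4]; ring⟩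

/-- The element of order seven. -/
theorem exists_w : ∃ w : G, w ^ 7 = 1 ∧
    (∀ v ∈ V8F.erase 1, ∃ j : ℕ, w ^ j * S.t * (w ^ j)⁻¹ = S.f v) ∧
    (S.f y0 * w * (S.f y0)⁻¹ = w * w ∨ (S.f y0)⁻¹ * w * S.f y0 = w * w) := by
  classical
  haveI : Fact (Nat.Prime 7) := ⟨by norm_num⟩
  haveI : Fact (Nat.Prime 3) := ⟨by norm_num⟩
  have hNc : Nat.card (normalizer (S.Q : Set G)) = 168 := card_normalizer S hodd
  set N := normalizer (S.Q : Set G) with hN
  set d := S.f y0 with hd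
  have hdN : d ∈ N := by
    rw [hN, mem_normalizer_iff]
    intro h
    constructor
    · intro hh
      obtain ⟨v, hv, rfl⟩ := S.mem_Q.1 hh
      rw [hd, ← map_inv, ← map_mul, ← map_mul]
      exact S.mem_Q.2 ⟨_, b_norm v hv, rfl⟩
    · intro hh
      obtain ⟨v, hv, e⟩ := S.mem_Q.1 hh
      have : h = S.f (y0⁻¹ * v * y0) := by
        rw [map_mul, map_mul, e, map_inv, ← hd]
        group
      rw [this]
      exact S.mem_Q.2 ⟨_, normal_inv y0 b_norm v hv, rfl⟩
  let d' : N := ⟨d, hdN⟩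
  have hd3 : d * d * d = 1 := by
    rw [hd, ← map_mul, ← map_mul]
    have : y0 * y0 * y0 = 1 := b_cube
    rw [this, map_one]
  have hd'3 : d' ^ 3 = 1 := by
    apply Subtype.ext
    change d ^ 3 = 1
    rw [pow_succ, pow_two, hd3]
  have hdne : d ≠ 1 := S.f_ne_one b_ne
  have hd'ne : d' ≠ 1 := fun h => hdne (congrArg Subtype.val h)
  obtain ⟨P0⟩ : Nonempty (Sylow 7 N) := inferInstance
  have hP0c := sylow_card_prime (q := 7) (m := 24) (by rw [hNc]) (by norm_num) P0
  have hn1 : Nat.card (Sylow 7 N) ≡ 1 [MOD 7] := card_sylow_modEq_one 7 N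
  have hn2 : Nat.card (Sylow 7 N) ∣ (P0 : Subgroup N).index := P0.card_dvd_index
  have hidx : (P0 : Subgroup N).index = 24 := by
    have := Subgroup.card_mul_index (P0 : Subgroup N)
    rw [hP0c, hNc] at this
    omega
  rw [hidx] at hn2
  have hn3 : ¬ 3 ∣ Nat.card (Sylow 7 N) := by
    have hle := Nat.le_of_dvd (by norm_num) hn2
    have hmod : Nat.card (Sylow 7 N) % 7 = 1 := hn1
    generalize Nat.card (Sylow 7 N) = n at *
    interval_cases n <;> omega
  have hD : IsPGroup 3 (zpowers d') := IsPGroup.of_card (n := 1) (by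
    rw [Nat.card_zpowers, orderOf_eq_prime hd'3 hd'ne, pow_one])
  obtain ⟨P, hP⟩ := hD.nonempty_fixed_point_of_prime_not_dvd_card (Sylow 7 N) hn3
  have hfix : d' • P = P := hP ⟨d', mem_zpowers d'⟩
  have hdnorm : d' ∈ normalizer ((P : Subgroup N) : Set N) :=
    Sylow.smul_eq_iff_mem_normalizer.1 hfix
  have hPc := sylow_card_prime (q := 7) (m := 24) (by rw [hNc]) (by norm_num) P
  haveI : Nontrivial (P : Subgroup N) := by
    rw [← Finite.one_lt_card_iff_nontrivial, hPc]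
    norm_num
  obtain ⟨x, hx⟩ := exists_ne (1 : (P : Subgroup N))
  set w : G := ((x : N) : G) with hw
  have hwne : w ≠ 1 := fun h => hx (Subtype.ext (Subtype.ext h))
  have hw7 : w ^ 7 = 1 := by
    have h1 : x ^ Nat.card (P : Subgroup N) = 1 := pow_card_eq_one'
    rw [hPc] at h1
    have h2 := congrArg (fun y : (P : Subgroup N) => ((y : N) : G)) h1
    simpa using h2
  have hword : orderOf w = 7 := orderOf_eq_prime hw7 hwne
  have hwN : w ∈ N := (x : N).2
  obtain ⟨k, hk⟩ : ∃ k : ℕ, d * w * d⁻¹ = w ^ k := by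
    have h1 : d' * (x : N) * d'⁻¹ ∈ (P : Subgroup N) :=
      (mem_normalizer_iff.1 hdnorm (x : N)).1 x.2
    have h2 : (⟨_, h1⟩ : (P : Subgroup N)) ∈ zpowers x := mem_zpowers_of_prime_card hPc hx
    rw [← mem_powers_iff_mem_zpowers] at h2
    obtain ⟨k, hk⟩ := h2
    refine ⟨k, ?_⟩
    have h3 := congrArg (fun y : (P : Subgroup N) => ((y : N) : G)) hk
    simp only [SubmonoidClass.coe_pow, MulMemClass.coe_mul, InvMemClass.coe_inv] at h3
    exact h3.symm
  -- the conjugates of `t`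
  have hkey : ∀ m : ℕ, m < 7 → w ^ m * S.t * (w ^ m)⁻¹ = S.t → m = 0 := by
    intro m hm h
    have hc : w ^ m * S.t = S.t * w ^ m := by
      calc w ^ m * S.t = (w ^ m * S.t * (w ^ m)⁻¹) * w ^ m := by group
        _ = S.t * w ^ m := by rw [h]
    obtain ⟨a, ha⟩ := S.range _ hc
    have h7 : a ^ 7 = 1 := by
      apply S.f_inj
      rw [map_pow, ha, map_one, ← pow_mul, mul_comm, pow_mul, hw7, one_pow]
    have h1 := no_seven a h7
    rw [h1, map_one] at ha
    have h2 : orderOf w ∣ m := orderOf_dvd_of_pow_eq_one ha.symm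
    rw [hword] at h2
    omega
  have hE : ∀ j : Fin 7, ∃ v ∈ V8F.erase 1, S.f v = w ^ (j : ℕ) * S.t * (w ^ (j : ℕ))⁻¹ := by
    intro j
    have h1 : w ^ (j : ℕ) * S.t * (w ^ (j : ℕ))⁻¹ ∈ S.Q :=
      (mem_normalizer_iff.1 (N.pow_mem hwN j) S.t).1 (t_mem S)
    obtain ⟨v, hv, e⟩ := S.mem_Q.1 h1
    refine ⟨v, Finset.mem_erase.2 ⟨?_, hv⟩, e⟩
    rintro rfl
    rw [map_one] at e
    apply S.t_ne_one
    have h2 : w ^ (j : ℕ) * S.t = w ^ (j : ℕ) := by
      calc w ^ (j : ℕ) * S.t = (w ^ (j : ℕ) * S.t * (w ^ (j : ℕ))⁻¹) * w ^ (j : ℕ) := by group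
        _ = w ^ (j : ℕ) := by rw [← e, one_mul]
    exact mul_left_cancel (a := w ^ (j : ℕ)) (by rw [h2, mul_one])
  choose g hg1 hg2 using hE
  have hle : ∀ i j : ℕ, i ≤ j → j < 7 → w ^ i * S.t * (w ^ i)⁻¹ = w ^ j * S.t * (w ^ j)⁻¹ → i = j := by
    intro i j hij hj h
    obtain ⟨m, rfl⟩ := Nat.exists_eq_add_of_le hij
    have h1 : w ^ m * S.t * (w ^ m)⁻¹ = S.t := by
      have h2 : w ^ i * (w ^ m * S.t * (w ^ m)⁻¹) * (w ^ i)⁻¹ = w ^ i * S.t * (w ^ i)⁻¹ := by
        rw [h, pow_add]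
        group
      have h3 := mul_right_cancel h2
      exact mul_left_cancel h3
    have := hkey m (by omega) h1
    omega
  have hinj : Function.Injective g := by
    intro i j hij
    have h : w ^ (i : ℕ) * S.t * (w ^ (i : ℕ))⁻¹ = w ^ (j : ℕ) * S.t * (w ^ (j : ℕ))⁻¹ := by
      rw [← hg2 i, ← hg2 j, hij]
    apply Fin.ext
    rcases le_total (i : ℕ) (j : ℕ) with h1 | h1
    · exact hle _ _ h1 j.2 h
    · exact (hle _ _ h1 i.2 h.symm).symm
  have himg : Finset.univ.image g = V8F.erase 1 := by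
    apply Finset.eq_of_subset_of_card_le
    · intro v hv
      obtain ⟨j, -, rfl⟩ := Finset.mem_image.1 hv
      exact hg1 j
    · rw [Finset.card_image_of_injective _ hinj, V8F_erase_card]
      simp
  have hsurj : ∀ v ∈ V8F.erase 1, ∃ j : ℕ, w ^ j * S.t * (w ^ j)⁻¹ = S.f v := by
    intro v hv
    rw [← himg] at hv
    obtain ⟨j, -, rfl⟩ := Finset.mem_image.1 hv
    exact ⟨j, (hg2 j).symm⟩
  refine ⟨w, hw7, hsurj, ?_⟩
  -- the exponent
  have hconjpow : ∀ y : G, ∀ j : ℕ, d * y ^ j * d⁻¹ = (d * y * d⁻¹) ^ j := fun y j => (conj_pow).symm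
  have h3 : d * (d * (d * w * d⁻¹) * d⁻¹) * d⁻¹ = w := by
    calc d * (d * (d * w * d⁻¹) * d⁻¹) * d⁻¹ = (d * d * d) * w * (d * d * d)⁻¹ := by group
      _ = w := by rw [hd3]; group
  have h4 : w ^ (k * k * k) = w ^ 1 := by
    rw [pow_one]
    rw [hk, hconjpow, hk, hconjpow, hconjpow, hk, ← pow_mul, ← pow_mul] at h3
    rw [← h3]
    congr 1
    ring
  rw [pow_eq_pow_iff_modEq, hword] at h4
  have h5 : (k * k * k) % 7 = 1 := h4
  have hkr : w ^ k = w ^ (k % 7) := by
    rw [← hword, pow_mod_orderOf]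
  have hlt : k % 7 < 7 := Nat.mod_lt _ (by norm_num)
  rw [Nat.mul_mod, Nat.mul_mod k k] at h5
  rw [hkr] at hk
  generalize k % 7 = r at *
  interval_cases r
  · omega
  · -- `d` commutes with `w`
    exfalso
    rw [pow_one] at hk
    obtain ⟨j, hj⟩ := hsurj w1 (by decide +kernel)
    have hdt : d * S.t * d⁻¹ = S.t := by
      rw [hd, S.comm_t]
      group
    have h6 : d * S.f w1 * d⁻¹ = S.f w1 := by
      rw [← hj]
      have h7 : d * w ^ j * d⁻¹ = w ^ j := by rw [hconjpow, hk]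
      calc d * (w ^ j * S.t * (w ^ j)⁻¹) * d⁻¹
          = (d * w ^ j * d⁻¹) * (d * S.t * d⁻¹) * (d * w ^ j * d⁻¹)⁻¹ := by group
        _ = _ := by rw [h7, hdt]
    apply w1_b_ne
    apply S.f_inj
    rw [map_mul, map_mul, map_inv]
    exact h6
  · left
    rw [hk, pow_two]
  · omega
  · right
    have h6 : d * (w * w) * d⁻¹ = w := by
      calc d * (w * w) * d⁻¹ = (d * w * d⁻¹) * (d * w * d⁻¹) := by group
        _ = w ^ 7 * w := by rw [hk]; rw [← pow_add, ← pow_succ]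
        _ = w := by rw [hw7, one_mul]
    calc d⁻¹ * w * d = d⁻¹ * (d * (w * w) * d⁻¹) * d := by rw [h6]
      _ = w * w := by group
  · omega
  · omega

/-- The element of order seven, with the right action of `y0`, for a possibly twisted setup. -/
theorem exists_setup_w : ∃ S' : Setup G, S'.t = S.t ∧ ∃ w : G, w ^ 7 = 1 ∧
    w * S'.t * w⁻¹ = S'.f w1 ∧ S'.f y0 * w * (S'.f y0)⁻¹ = w * w := by
  obtain ⟨w, h7, hsurj, hcases⟩ := exists_w S hodd
  obtain ⟨j, hj⟩ := hsurj w1 (by decide +kernel)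
  have h7' : (w ^ j) ^ 7 = 1 := by
    rw [← pow_mul, mul_comm, pow_mul, h7, one_pow]
  have hsq : (w * w) ^ j = w ^ j * w ^ j := (Commute.refl w).mul_pow j
  rcases hcases with h | h
  · refine ⟨S, rfl, w ^ j, h7', hj, ?_⟩
    rw [← conj_pow, h, hsq]
  · refine ⟨twist S, rfl, w ^ j, h7', ?_, ?_⟩
    · change w ^ j * S.t * (w ^ j)⁻¹ = S.f (τ w1)
      rw [τ_w1, hj]
    · have e : (twist S).f y0 = (S.f y0)⁻¹ := by
        change S.f (τ y0) = _
        rw [τ_y0, map_inv]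
      rw [e, ← conj_pow]
      rw [inv_inv, h, hsq]

end Cfsg.Agent.Lib.J1Rec.W
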