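import Cfsg.Agent.Lib.J1Rec.Z0

/-!
# The element of order five commuting with the element of order three
-/

set_option autoImplicit false
set_option maxRecDepth 100000

namespace Cfsg.Agent.Lib.J1Rec.Z

open Cfsg.Agent.Lib.J1.Alt Cfsg.Agent.Lib.J1.Local Cfsg.Agent.Lib.J1Rec.AData
  Cfsg.Agent.Lib.J1Rec.Z0 Subgroup

variable {G : Type*} [Group G] [Finite G] [IsSimpleGroup G] (S : Setup G)
  (hodd : ¬ 2 ∣ (centralizer ({S.t} : Set G)).index)

include hodd

/-- The centralizer of an involution is a conjugate of the image of `A`. -/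
theorem conj_cent {u : G} (hu : u * u = 1) (hne : u ≠ 1) :
    ∃ g : G, g * S.t * g⁻¹ = u ∧ ∀ x : G, x * u = u * x → ∃ a : A, x = g * S.f a * g⁻¹ := by
  obtain ⟨g, hg⟩ := isConj_iff.1 (S.isConj_of_involution hodd hu hne)
  refine ⟨g, hg, ?_⟩
  intro x hx
  subst hg
  have h1 : (g⁻¹ * x * g) * S.t = S.t * (g⁻¹ * x * g) := by
    calc (g⁻¹ * x * g) * S.t = g⁻¹ * (x * (g * S.t * g⁻¹)) * g := by group
      _ = g⁻¹ * ((g * S.t * g⁻¹) * x) * g := by rw [hx]
      _ = _ := by group
  obtain ⟨a, ha⟩ := S.range _ h1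
  exact ⟨a, by rw [ha]; group⟩

omit hodd [Finite G] [IsSimpleGroup G] in
theorem pow_a {g x : G} {a : A} (hx : x = g * S.f a * g⁻¹) {n : ℕ} (h : x ^ n = 1) : a ^ n = 1 := by
  apply S.f_inj
  rw [map_pow, map_one]
  have h1 : g * (S.f a) ^ n * g⁻¹ = 1 := by rw [← conj_pow, ← hx, h]
  exact conj_eq_one_iff.1 h1

theorem no_q {u x : G} (hu : u * u = 1) (hne : u ≠ 1) (hx : x * u = u * x) {n : ℕ}
    (hA : ∀ a : A, a ^ n = 1 → a = 1) (h : x ^ n = 1) : x = 1 := by
  obtain ⟨g, -, hg⟩ := conj_cent S hodd hu hne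
  obtain ⟨a, ha⟩ := hg x hx
  have h1 := hA a (pow_a S ha h)
  rw [ha, h1, map_one]
  group

theorem sq_of_pow4 {x : G} (h : x ^ 4 = 1) : x * x = 1 := by
  by_contra hne
  have hu : (x * x) * (x * x) = 1 := by
    have h1 : (x * x) * (x * x) = x ^ 4 := by
      simp only [pow_succ, pow_zero, one_mul, mul_assoc]
    rw [h1, h]
  obtain ⟨g, -, hg⟩ := conj_cent S hodd hu hne
  obtain ⟨a, ha⟩ := hg x (by group)
  have h4 := no_four a (pow_a S ha h)
  apply hne
  rw [ha]
  calc g * S.f a * g⁻¹ * (g * S.f a * g⁻¹) = g * S.f (a * a) * g⁻¹ := by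
        rw [map_mul]; group
    _ = 1 := by rw [h4, map_one]; group

theorem comm_inv_eq {δ u₁ u₂ : G} (hδ3 : δ ^ 3 = 1) (hδne : δ ≠ 1) (hu1 : u₁ * u₁ = 1) (hu1ne : u₁ ≠ 1)
    (hu2 : u₂ * u₂ = 1) (hu2ne : u₂ ≠ 1) (hc1 : δ * u₁ = u₁ * δ) (hc2 : δ * u₂ = u₂ * δ)
    (hc : u₂ * u₁ = u₁ * u₂) : u₂ = u₁ := by
  obtain ⟨g, hg, hC⟩ := conj_cent S hodd hu1 hu1ne
  obtain ⟨α, hα⟩ := hC δ hc1
  obtain ⟨β, hβ⟩ := hC u₂ hc
  have h3 := pow_a S hα hδ3
  have hαne : α ≠ 1 := by
    rintro rfl
    apply hδne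
    rw [hα, map_one]
    group
  have hββ : β * β = 1 := by
    have h := pow_a S hβ (n := 2) (by rw [pow_two, hu2])
    rwa [pow_two] at h
  have hβne : β ≠ 1 := by
    rintro rfl
    apply hu2ne
    rw [hβ, map_one]
    group
  have hcomm : α * β = β * α := by
    apply S.f_inj
    rw [map_mul, map_mul]
    have h5 : g * (S.f α * S.f β) * g⁻¹ = g * (S.f β * S.f α) * g⁻¹ := by
      calc g * (S.f α * S.f β) * g⁻¹ = (g * S.f α * g⁻¹) * (g * S.f β * g⁻¹) := by group
        _ = δ * u₂ := by rw [← hα, ← hβ]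
        _ = u₂ * δ := hc2
        _ = (g * S.f β * g⁻¹) * (g * S.f α * g⁻¹) := by rw [← hα, ← hβ]
        _ = _ := by group
    exact mul_left_cancel (mul_right_cancel h5)
  have h6 := inv_of_three α β ⟨h3, hαne, hββ, hβne, hcomm⟩
  rw [hβ, h6, S.f_t0, hg]

theorem not_four_dvd {δ : G} (hδ3 : δ ^ 3 = 1) (hδne : δ ≠ 1) :
    ¬ 4 ∣ Nat.card (centralizer ({δ} : Set G)) := by
  classical
  intro h
  haveI : Fact (Nat.Prime 2) := ⟨Nat.prime_two⟩
  obtain ⟨H, hH⟩ := Sylow.exists_subgroup_card_pow_prime (G := centralizer ({δ} : Set G)) 2 (n := 2)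
    (by simpa using h)
  have hH4 : Nat.card H = 4 := by simpa using hH
  have hsq : ∀ x : H, ((x : centralizer ({δ} : Set G)) : G) * (x : centralizer ({δ} : Set G)) = 1 := by
    intro x
    have h1 : x ^ Nat.card H = 1 := pow_card_eq_one'
    rw [hH4] at h1
    have h2 := congrArg (fun y : H => ((y : centralizer ({δ} : Set G)) : G)) h1
    simp only [SubmonoidClass.coe_pow, OneMemClass.coe_one] at h2
    exact sq_of_pow4 S hodd h2
  cases nonempty_fintype H
  have hcard : Fintype.card H = 4 := by rw [← Nat.card_eq_fintype_card, hH4]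
  obtain ⟨x, hx⟩ := Fintype.exists_ne_of_one_lt_card (by omega : 1 < Fintype.card H) 1
  obtain ⟨y, -, hy⟩ := Finset.exists_mem_notMem_of_card_lt_card (s := ({1, x} : Finset H))
    (t := Finset.univ) (by
      rw [Finset.card_univ, hcard]
      exact lt_of_le_of_lt (Finset.card_le_two) (by norm_num))
  simp only [Finset.mem_insert, Finset.mem_singleton, not_or] at hy
  have hy1 : y ≠ 1 := hy.1
  have hyx : y ≠ x := hy.2
  set u₁ : G := ((x : centralizer ({δ} : Set G)) : G) with hu₁
  set u₂ : G := ((y : centralizer ({δ} : Set G)) : G) with hu₂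
  have hne1 : u₁ ≠ 1 := fun h => hx (Subtype.ext (Subtype.ext h))
  have hne2 : u₂ ≠ 1 := fun h => hy1 (Subtype.ext (Subtype.ext h))
  have hc1 : δ * u₁ = u₁ * δ := (mem_centralizer_singleton_iff.1 (x : centralizer ({δ} : Set G)).2).symm
  have hc2 : δ * u₂ = u₂ * δ := (mem_centralizer_singleton_iff.1 (y : centralizer ({δ} : Set G)).2).symm
  have hs1 : u₁ * u₁ = 1 := hsq x
  have hs2 : u₂ * u₂ = 1 := hsq y
  have hs3 : (u₁ * u₂) * (u₁ * u₂) = 1 := hsq (x * y)
  have hcomm : u₂ * u₁ = u₁ * u₂ := by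
    have h1 : u₁⁻¹ = u₁ := inv_eq_of_mul_eq_one_left hs1
    have h2 : u₂⁻¹ = u₂ := inv_eq_of_mul_eq_one_left hs2
    have h3 : (u₁ * u₂)⁻¹ = u₁ * u₂ := inv_eq_of_mul_eq_one_left hs3
    rw [mul_inv_rev, h1, h2] at h3
    exact h3
  have h := comm_inv_eq S hodd hδ3 hδne hs1 hne1 hs2 hne2 hc1 hc2 hcomm
  exact hyx (Subtype.ext (Subtype.ext h))

omit hodd [Finite G] [IsSimpleGroup G] in
theorem comm_of_conj {u x : G} (h : u * x * u⁻¹ = x) : x * u = u * x := by
  calc x * u = (u * x * u⁻¹) * u := by rw [h]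
    _ = u * x := by group

omit hodd [Finite G] [IsSimpleGroup G] in
theorem norm_zpowers {d g : G} (h : ∃ i : ℤ, g * d * g⁻¹ = d ^ i) (h' : ∃ i : ℤ, g⁻¹ * d * g = d ^ i) :
    g ∈ normalizer ((zpowers d : Subgroup G) : Set G) := by
  obtain ⟨i, hi⟩ := h
  obtain ⟨i', hi'⟩ := h'
  rw [mem_normalizer_iff]
  intro y
  constructor
  · intro hy
    obtain ⟨j, rfl⟩ := mem_zpowers_iff.1 hy
    rw [← conj_zpow, hi, ← zpow_mul]
    exact zpow_mem (mem_zpowers d) _
  · intro hy
    obtain ⟨j, hj⟩ := mem_zpowers_iff.1 hy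
    have e : y = (g⁻¹ * d * g) ^ j := by
      have h1 := conj_zpow (a := g⁻¹) (b := d) (i := j)
      rw [inv_inv] at h1
      rw [h1, hj]
      group
    rw [e, hi', ← zpow_mul]
    exact zpow_mem (mem_zpowers d) _

/-- The main lemma: an element of order five commuting with `y0`. -/
theorem exists_z (hcard : Nat.card G = 175560) :
    ∃ z : G, z ^ 5 = 1 ∧ z ≠ 1 ∧ z * S.f y0 = S.f y0 * z ∧ S.t * z * S.t⁻¹ = z⁻¹ ∧
      (S.f f₀ * z * (S.f f₀)⁻¹ = z ∨ S.f f₀ * z * (S.f f₀)⁻¹ = z⁻¹) := by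
  classical
  haveI f3 : Fact (Nat.Prime 3) := ⟨by norm_num⟩
  haveI f5 : Fact (Nat.Prime 5) := ⟨by norm_num⟩
  haveI f7 : Fact (Nat.Prime 7) := ⟨by norm_num⟩
  haveI f11 : Fact (Nat.Prime 11) := ⟨by norm_num⟩
  haveI f19 : Fact (Nat.Prime 19) := ⟨by norm_num⟩
  have ht2 : S.t * S.t = 1 := S.t_sq
  have htne : S.t ≠ 1 := S.t_ne_one
  set d := S.f y0 with hd
  set φ := S.f f₀ with hφ
  have hd3' : d * d * d = 1 := by
    rw [hd, ← map_mul, ← map_mul]
    have e : y0 * y0 * y0 = 1 := b_cube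
    rw [e, map_one]
  have hd3 : d ^ 3 = 1 := by
    rw [pow_succ, pow_two]
    exact hd3'
  have hdne : d ≠ 1 := S.f_ne_one b_ne
  have hdord : orderOf d = 3 := orderOf_eq_prime hd3 hdne
  have hdinv : d⁻¹ ≠ d := by
    intro h
    apply hdne
    have h1 : d * d = 1 := by
      calc d * d = d⁻¹ * d := by rw [h]
        _ = 1 := inv_mul_cancel d
    rw [h1, one_mul] at hd3'
    exact hd3'
  have hφ2 : φ * φ = 1 := by
    rw [hφ, ← map_mul, f_sq, map_one]
  have hφinv : φ⁻¹ = φ := inv_eq_of_mul_eq_one_left hφ2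
  have hφd : φ * d * φ⁻¹ = d⁻¹ := by
    have e : f₀ * y0 * f₀⁻¹ = y0⁻¹ := f_b
    rw [hφ, hd, ← map_inv, ← map_mul, ← map_mul, ← map_inv, e]
  have htd : S.t * d = d * S.t := (S.comm_t y0).symm
  have htφ : S.t * φ = φ * S.t := (S.comm_t f₀).symm
  have hφne : φ ≠ 1 := S.f_ne_one f_ne_one
  have htφne : S.t * φ ≠ 1 := by
    intro h
    have h1 : φ = S.t := by
      have h2 : φ = S.t⁻¹ := eq_inv_of_mul_eq_one_right h
      rw [h2]
      exact inv_eq_of_mul_eq_one_left ht2
    apply f_ne_t0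
    apply S.f_inj
    rw [S.f_t0]
    exact h1
  have htφ2 : (S.t * φ) * (S.t * φ) = 1 := by
    calc (S.t * φ) * (S.t * φ) = S.t * (φ * S.t) * φ := by group
      _ = S.t * (S.t * φ) * φ := by rw [htφ]
      _ = (S.t * S.t) * (φ * φ) := by group
      _ = 1 := by rw [ht2, hφ2, one_mul]
  -- the centralizer and its complement
  set C := centralizer ({d} : Set G) with hC
  have hCmem : ∀ x : G, x ∈ C ↔ x * d = d * x := fun x => mem_centralizer_singleton_iff
  have htC : S.t ∈ C := (hCmem _).2 htd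
  have hC2 : 2 ∣ Nat.card C := by
    have h1 : orderOf (⟨S.t, htC⟩ : C) = 2 :=
      orderOf_eq_prime (Subtype.ext (by simpa [pow_two] using ht2))
        (fun h => htne (congrArg Subtype.val h))
    rw [← h1]
    exact orderOf_dvd_natCard _
  have hC4 := not_four_dvd S hodd hd3 hdne
  obtain ⟨K₀, hK1, hK2, hK3⟩ := exists_odd_index_two hC2 hC4
  set K := K₀.map C.subtype with hK
  have hKc : Nat.card K = Nat.card K₀ := card_map_of_injective C.subtype_injective
  have hCc : Nat.card C = Nat.card K * 2 := by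
    rw [hKc, ← card_mul_index K₀, hK2]
  have hKoddn : ¬ 2 ∣ Nat.card K := by rwa [hKc]
  have hKmem : ∀ x : G, x ∈ C → ∀ m : ℕ, Odd m → x ^ m = 1 → x ∈ K := by
    intro x hx m hm h
    exact ⟨⟨x, hx⟩, hK3 _ m hm (Subtype.ext (by simpa using h)), rfl⟩
  have hKC : ∀ x ∈ K, x ∈ C := by
    rintro _ ⟨y, -, rfl⟩
    exact y.2
  have hKodd : ∀ x ∈ K, ∃ m : ℕ, Odd m ∧ x ^ m = 1 := by
    intro x hx
    refine ⟨Nat.card K, ?_, ?_⟩
    · rw [← Nat.not_even_iff_odd, even_iff_two_dvd]
      exact hKoddn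
    · have h1 : (⟨x, hx⟩ : K) ^ Nat.card K = 1 := pow_card_eq_one'
      have h2 := congrArg Subtype.val h1
      simpa only [SubmonoidClass.coe_pow, OneMemClass.coe_one] using h2
  have hnorm : ∀ g : G, g * g = 1 → (g * d * g⁻¹ = d ∨ g * d * g⁻¹ = d⁻¹) →
      g ∈ normalizer (K : Set G) := by
    intro g hg hgd
    have hfw : ∀ h ∈ K, g * h * g⁻¹ ∈ K := by
      intro h hh
      obtain ⟨m, hm, hp⟩ := hKodd h hh
      refine hKmem _ ?_ m hm ?_
      · rw [hCmem]
        have h1 : h * d = d * h := (hCmem h).1 (hKC h hh)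
        have h2 : (g * h * g⁻¹) * (g * d * g⁻¹) = (g * d * g⁻¹) * (g * h * g⁻¹) := by
          calc _ = g * (h * d) * g⁻¹ := by group
            _ = g * (d * h) * g⁻¹ := by rw [h1]
            _ = _ := by group
        rcases hgd with e | e
        · rw [e] at h2
          exact h2
        · rw [e] at h2
          set x := g * h * g⁻¹ with hx
          calc x * d = d * (d⁻¹ * x) * d := by group
            _ = d * (x * d⁻¹) * d := by rw [h2]
            _ = d * x := by group
      · rw [conj_pow, hp]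
        group
    rw [mem_normalizer_iff]
    intro h
    refine ⟨hfw h, fun hh => ?_⟩
    have h1 := hfw _ hh
    have e : g * (g * h * g⁻¹) * g⁻¹ = h := by
      calc g * (g * h * g⁻¹) * g⁻¹ = (g * g) * h * (g * g)⁻¹ := by group
        _ = h := by rw [hg]; group
    rwa [e] at h1
  have hnt : S.t ∈ normalizer (K : Set G) := hnorm S.t ht2 (Or.inl (by rw [htd]; group))
  have hnφ : φ ∈ normalizer (K : Set G) := hnorm φ hφ2 (Or.inr hφd)
  have hKdvd : Nat.card K ∣ 87780 := by
    have h1 : Nat.card C ∣ Nat.card G := card_subgroup_dvd_card C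
    rw [hCc, hcard] at h1
    exact Nat.dvd_of_mul_dvd_mul_right (by norm_num : 0 < 2) (by simpa using h1)
  have hexcl : ∀ q : ℕ, ∀ [Fact q.Prime], (∀ a : A, a ^ q = 1 → a = 1) → ¬ q * q ∣ 87780 →
      ¬ q ∣ Nat.card K := by
    intro q _ hA hqq hqK
    obtain ⟨z, hz, -, hi1, hi2⟩ := exists_invariant_elt K hKoddn hnt hnφ ht2 hφ2 htφ q hqK
      (fun h => hqq (h.trans hKdvd))
    have hzq : z ^ q = 1 := by
      rw [← hz]
      exact pow_orderOf_eq_one z
    have hq1 : q ≠ 1 := (Fact.out : q.Prime).one_lt.ne'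
    have hzne : z ≠ 1 := by
      intro h
      rw [h, orderOf_one] at hz
      exact hq1 hz.symm
    rcases inv_or Fact.out hz ht2 hi1 with e1 | e1
    · exact hzne (no_q S hodd ht2 htne (comm_of_conj e1) hA hzq)
    · rcases inv_or Fact.out hz hφ2 hi2 with e2 | e2
      · exact hzne (no_q S hodd hφ2 hφne (comm_of_conj e2) hA hzq)
      · refine hzne (no_q S hodd htφ2 htφne (comm_of_conj ?_) hA hzq)
        calc (S.t * φ) * z * (S.t * φ)⁻¹ = S.t * (φ * z * φ⁻¹) * S.t⁻¹ := by group
          _ = S.t * z⁻¹ * S.t⁻¹ := by rw [e2]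
          _ = (S.t * z * S.t⁻¹)⁻¹ := by group
          _ = z := by rw [e1, inv_inv]
  have h7 := hexcl 7 no_seven (by norm_num)
  have h11 := hexcl 11 no_eleven (by norm_num)
  have h19 := hexcl 19 no_nineteen (by norm_num)
  have hdK : d ∈ K := hKmem d ((hCmem d).2 rfl) 3 (by decide) hd3
  have h3K : 3 ∣ Nat.card K := by
    have h1 : orderOf (⟨d, hdK⟩ : K) = 3 :=
      orderOf_eq_prime (Subtype.ext (by simpa using hd3))
        (fun h => hdne (congrArg Subtype.val h))
    rw [← h1]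
    exact orderOf_dvd_natCard _
  have h15 : Nat.card K ∣ 15 := by
    have c2 : Nat.Coprime (Nat.card K) 2 := ((Nat.Prime.coprime_iff_not_dvd Nat.prime_two).2 hKoddn).symm
    have c7 : Nat.Coprime (Nat.card K) 7 := ((Nat.Prime.coprime_iff_not_dvd (by norm_num)).2 h7).symm
    have c11 : Nat.Coprime (Nat.card K) 11 := ((Nat.Prime.coprime_iff_not_dvd (by norm_num)).2 h11).symm
    have c19 : Nat.Coprime (Nat.card K) 19 := ((Nat.Prime.coprime_iff_not_dvd (by norm_num)).2 h19).symm
    have hco : Nat.Coprime (Nat.card K) (2 * 2 * 7 * 11 * 19) :=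
      (((c2.mul_right c2).mul_right c7).mul_right c11).mul_right c19
    have h1 : Nat.card K ∣ (2 * 2 * 7 * 11 * 19) * 15 := by
      have e : (2 * 2 * 7 * 11 * 19) * 15 = 87780 := by norm_num
      rw [e]
      exact hKdvd
    exact hco.dvd_of_dvd_mul_left h1
  have aux : ∀ n : ℕ, n ∣ 15 → 3 ∣ n → n = 3 ∨ n = 15 := by
    intro n h1 h2
    have h3 := Nat.le_of_dvd (by norm_num) h1
    interval_cases n <;> omega
  have h5K : 5 ∣ Nat.card K := by
    rcases aux _ h15 h3K with h | h
    · exfalso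
      have hC6 : Nat.card C = 6 := by rw [hCc, h]
      have hP3c : Nat.card (zpowers d) = 3 := by rw [Nat.card_zpowers, hdord]
      have hP3 : IsPGroup 3 (zpowers d) := IsPGroup.of_card (n := 1) (by rw [hP3c, pow_one])
      have hidx3 : ¬ 3 ∣ (zpowers d).index := by
        have h1 := card_mul_index (zpowers d)
        rw [hP3c, hcard] at h1
        have h2 : (zpowers d).index = 58520 := by omega
        rw [h2]
        norm_num
      let Sy : Sylow 3 G := hP3.toSylow hidx3
      have h1 : Nat.card (Sylow 3 G) = (normalizer ((zpowers d : Subgroup G) : Set G)).index :=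
        Sy.card_eq_index_normalizer
      have h2 : Nat.card (Sylow 3 G) ≡ 1 [MOD 3] := card_sylow_modEq_one 3 G
      set M := normalizer ((zpowers d : Subgroup G) : Set G) with hM
      have hCM : C ≤ M := by
        intro x hx
        have hx' := (hCmem x).1 hx
        apply norm_zpowers
        · refine ⟨1, ?_⟩
          rw [zpow_one, hx']
          group
        · refine ⟨1, ?_⟩
          rw [zpow_one]
          calc x⁻¹ * d * x = x⁻¹ * (d * x) := by group
            _ = x⁻¹ * (x * d) := by rw [hx']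
            _ = d := by group
      have hφM : φ ∈ M := by
        apply norm_zpowers
        · exact ⟨-1, by rw [hφd, zpow_neg_one]⟩
        · refine ⟨-1, ?_⟩
          rw [hφinv, zpow_neg_one]
          nth_rewrite 2 [← hφinv]
          exact hφd
      have hfac : ∀ x : G, x ∈ C ↔ x * d * x⁻¹ = d := by
        intro x
        rw [hCmem]
        constructor
        · intro h
          rw [h]
          group
        · intro h
          exact comm_of_conj (u := x) (x := d) h |>.symm
      have hH2 : (C.subgroupOf M).index = 2 := by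
        rw [index_eq_two_iff]
        refine ⟨⟨φ, hφM⟩, ?_⟩
        rintro ⟨b, hb⟩
        change Xor (b * φ ∈ C) (b ∈ C)
        have hbd : b * d * b⁻¹ ∈ zpowers d := (mem_normalizer_iff.1 hb d).1 (mem_zpowers d)
        obtain ⟨i, hi⟩ := mem_zpowers_iff.1 hbd
        have hval : (b * φ) * d * (b * φ)⁻¹ = (b * d * b⁻¹)⁻¹ := by
          calc (b * φ) * d * (b * φ)⁻¹ = b * (φ * d * φ⁻¹) * b⁻¹ := by group
            _ = b * d⁻¹ * b⁻¹ := by rw [hφd]
            _ = _ := by group
        have hcases : b * d * b⁻¹ = d ∨ b * d * b⁻¹ = d⁻¹ := by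
          have h3 : d ^ (i % (orderOf d : ℤ)) = d ^ i := zpow_mod_orderOf d i
          rw [hdord] at h3
          have h4 : i % ((3 : ℕ) : ℤ) = 0 ∨ i % ((3 : ℕ) : ℤ) = 1 ∨ i % ((3 : ℕ) : ℤ) = 2 := by omega
          rw [← hi]
          rcases h4 with h4 | h4 | h4
          · exfalso
            rw [h4, zpow_zero] at h3
            apply hdne
            have h5 : b * d * b⁻¹ = 1 := by rw [← hi]; exact h3.symm
            exact conj_eq_one_iff.1 h5
          · left
            rw [h4, zpow_one] at h3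
            exact h3.symm
          · right
            rw [h4] at h3
            rw [← h3]
            have h5 : d ^ (2 : ℤ) = d * d := by
              rw [show (2 : ℤ) = ((2 : ℕ) : ℤ) by norm_num, zpow_natCast, pow_two]
            rw [h5]
            exact eq_inv_of_mul_eq_one_left hd3'
        rcases hcases with e | e
        · right
          refine ⟨(hfac b).2 e, ?_⟩
          rw [hfac, hval, e]
          exact hdinv
        · left
          refine ⟨?_, ?_⟩
          · rw [hfac, hval, e, inv_inv]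
          · rw [hfac, e]
            exact hdinv
      have hMc : Nat.card M = 12 := by
        have h3 := card_mul_index (C.subgroupOf M)
        have h4 : Nat.card (C.subgroupOf M) = Nat.card C :=
          Nat.card_congr (subgroupOfEquivOfLe hCM).toEquiv
        rw [h4, hH2, hC6] at h3
        omega
      have hMi : M.index = 14630 := by
        have h3 := card_mul_index M
        rw [hMc, hcard] at h3
        omega
      rw [h1, hMi] at h2
      exact absurd h2 (by decide)
    · rw [h]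
      norm_num
  obtain ⟨z, hz, hzK, hi1, hi2⟩ := exists_invariant_elt K hKoddn hnt hnφ ht2 hφ2 htφ 5 h5K
    (fun h => by
      have h1 := h.trans h15
      norm_num at h1)
  have hz5 : z ^ 5 = 1 := by
    rw [← hz]
    exact pow_orderOf_eq_one z
  have hzne : z ≠ 1 := by
    intro h
    rw [h, orderOf_one] at hz
    norm_num at hz
  have hzd : z * d = d * z := (hCmem z).1 (hKC z hzK)
  refine ⟨z, hz5, hzne, hzd, ?_, inv_or (by norm_num) hz hφ2 hi2⟩
  rcases inv_or (by norm_num) hz ht2 hi1 with e1 | e1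
  · exfalso
    obtain ⟨α, rfl⟩ := S.range z (comm_of_conj e1)
    have hα5 : α ^ 5 = 1 := by
      apply S.f_inj
      rw [map_pow, hz5, map_one]
    have hcomm : α * y0 = y0 * α := by
      apply S.f_inj
      rw [map_mul, map_mul]
      exact hzd
    rcases no_fifteen α y0 ⟨hα5, by decide +kernel, hcomm⟩ with h | h
    · apply hzne
      rw [h, map_one]
    · exact b_ne h
  · exact e1

end Cfsg.Agent.Lib.J1Rec.Z
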