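import Cfsg.Agent.Lib.J1Rec.W
import Cfsg.Agent.Lib.FGS.MinNon

/-!
# General lemmas for the element of order five
-/

set_option autoImplicit false
set_option maxRecDepth 100000

namespace Cfsg.Agent.Lib.J1Rec.Z0

open Subgroup

/-- A group with Sylow `2`-subgroups of order two has a subgroup of index two containing all the
elements of odd order. -/
theorem exists_odd_index_two {X : Type*} [Group X] [Finite X] (h2 : 2 ∣ Nat.card X)
    (h4 : ¬ 4 ∣ Nat.card X) :
    ∃ K : Subgroup X, ¬ 2 ∣ Nat.card K ∧ K.index = 2 ∧ ∀ x : X, ∀ m : ℕ, Odd m → x ^ m = 1 → x ∈ K := by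
  classical
  haveI : Fact (Nat.Prime 2) := ⟨Nat.prime_two⟩
  obtain ⟨P⟩ : Nonempty (Sylow 2 X) := inferInstance
  obtain ⟨m, hm⟩ := h2
  have hm2 : ¬ 2 ∣ m := by
    rintro ⟨l, rfl⟩
    exact h4 ⟨l, by rw [hm]; ring⟩
  have hPc : Nat.card (P : Subgroup X) = 2 := W.sylow_card_prime hm hm2 P
  obtain ⟨u, hu, huniq⟩ := (Nat.card_eq_two_iff' (1 : (P : Subgroup X))).1 hPc
  have hP : normalizer ((P : Subgroup X) : Set X) ≤ centralizer ((P : Subgroup X) : Set X) := by
    intro x hx
    rw [mem_centralizer_iff]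
    intro y hy
    by_cases hy1 : (⟨y, hy⟩ : (P : Subgroup X)) = 1
    · have : y = 1 := congrArg Subtype.val hy1
      rw [this]; simp
    · have h3 : x * y * x⁻¹ ∈ (P : Subgroup X) := (mem_normalizer_iff.1 hx y).1 hy
      have h4 : (⟨x * y * x⁻¹, h3⟩ : (P : Subgroup X)) ≠ 1 := by
        intro h
        have h5 : x * y * x⁻¹ = 1 := congrArg Subtype.val h
        apply hy1
        apply Subtype.ext
        simpa using h5
      have h6 := huniq _ hy1
      have h7 := huniq _ h4
      have h8 : x * y * x⁻¹ = y := by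
        have := h7.trans h6.symm
        exact congrArg Subtype.val this
      calc y * x = (x * y * x⁻¹) * x := by rw [h8]
        _ = x * y := by group
  let T := MonoidHom.transferSylow P hP
  refine ⟨T.ker, ?_, ?_, ?_⟩
  · exact MonoidHom.not_dvd_card_ker_transferSylow P hP
  · have h1 := (MonoidHom.ker_transferSylow_isComplement' P hP).symm.index_eq_card
    rw [h1, hPc]
  · intro x n hn hx
    rw [MonoidHom.mem_ker]
    have h1 : (T x) ^ n = 1 := by rw [← map_pow, hx, map_one]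
    have h2' : (T x) ^ Nat.card (P : Subgroup X) = 1 := pow_card_eq_one'
    rw [hPc] at h2'
    obtain ⟨l, rfl⟩ := hn
    rw [pow_succ, pow_mul, h2', one_pow, one_mul] at h1
    exact h1

/-- A four-group acting on a group of prime order. -/
theorem inv_or {G : Type*} [Group G] {q : ℕ} (hq : q.Prime) {z g : G} (hz : orderOf z = q)
    (hg : g * g = 1) (h : ∃ i : ℤ, g * z * g⁻¹ = z ^ i) :
    g * z * g⁻¹ = z ∨ g * z * g⁻¹ = z⁻¹ := by
  obtain ⟨i, hi⟩ := h
  have hg' : g⁻¹ = g := inv_eq_of_mul_eq_one_left hg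
  have h1 : g * (g * z * g⁻¹) * g⁻¹ = z := by
    calc g * (g * z * g⁻¹) * g⁻¹ = (g * g) * z * (g * g)⁻¹ := by group
      _ = z := by rw [hg]; group
  have h2 : g * (g * z * g⁻¹) * g⁻¹ = z ^ (i * i) := by
    rw [hi, ← conj_zpow, hi, ← zpow_mul]
  rw [h2] at h1
  have h3 : z ^ ((i - 1) * (i + 1)) = 1 := by
    have : (i - 1) * (i + 1) = i * i - 1 := by ring
    rw [this, zpow_sub_one, h1, mul_inv_cancel]
  rw [← orderOf_dvd_iff_zpow_eq_one, hz] at h3
  rcases (Nat.prime_iff_prime_int.1 hq).dvd_or_dvd h3 with h4 | h4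
  · left
    rw [← hz, orderOf_dvd_iff_zpow_eq_one, zpow_sub_one] at h4
    rw [hi]
    exact mul_inv_eq_one.1 h4
  · right
    rw [← hz, orderOf_dvd_iff_zpow_eq_one, zpow_add_one] at h4
    rw [hi]
    exact eq_inv_of_mul_eq_one_left h4

/-- An invariant element of prime order in a subgroup of odd order. -/
theorem exists_invariant_elt {G : Type*} [Group G] [Finite G] (K : Subgroup G)
    (hodd : ¬ 2 ∣ Nat.card K) {t φ : G} (ht : t ∈ normalizer (K : Set G))
    (hφ : φ ∈ normalizer (K : Set G)) (ht2 : t * t = 1) (hφ2 : φ * φ = 1) (hc : t * φ = φ * t)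
    (q : ℕ) [hq : Fact q.Prime] (hqK : q ∣ Nat.card K) (hqq : ¬ q * q ∣ Nat.card K) :
    ∃ z : G, orderOf z = q ∧ z ∈ K ∧ (∃ i : ℤ, t * z * t⁻¹ = z ^ i) ∧ (∃ i : ℤ, φ * z * φ⁻¹ = z ^ i) := by
  classical
  haveI : Fact (Nat.Prime 2) := ⟨Nat.prime_two⟩
  set L := normalizer (K : Set G) with hL
  let N : Subgroup L := K.subgroupOf L
  haveI hNn : N.Normal := normal_in_normalizer
  have hNc : Nat.card N = Nat.card K :=
    Nat.card_congr (subgroupOfEquivOfLe (le_normalizer (H := K))).toEquiv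
  let t' : L := ⟨t, ht⟩
  let φ' : L := ⟨φ, hφ⟩
  have ht2' : t' * t' = 1 := Subtype.ext ht2
  have hφ2' : φ' * φ' = 1 := Subtype.ext hφ2
  have hc' : t' * φ' = φ' * t' := Subtype.ext hc
  have hcomm : ∀ x ∈ ({t', φ'} : Set L), ∀ y ∈ ({t', φ'} : Set L), x * y = y * x := by
    rintro x (rfl | rfl) y (rfl | rfl)
    · rfl
    · exact hc'
    · exact hc'.symm
    · rfl
  have cg := isMulCommutative_closure hcomm
  have hsq : ∀ x ∈ closure ({t', φ'} : Set L), x * x = 1 := by
    intro x hx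
    induction hx using closure_induction with
    | mem x hx =>
      rcases hx with rfl | rfl
      · exact ht2'
      · exact hφ2'
    | one => simp
    | mul x y hx hy ihx ihy =>
      have h1 : y * x = x * y := congrArg Subtype.val (cg.is_comm.comm ⟨y, hy⟩ ⟨x, hx⟩)
      calc x * y * (x * y) = x * (y * x) * y := by group
        _ = x * (x * y) * y := by rw [h1]
        _ = (x * x) * (y * y) := by group
        _ = 1 := by rw [ihx, ihy, one_mul]
    | inv x hx ih =>
      rw [← mul_inv_rev, ih, inv_one]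
  have hW : IsPGroup 2 (closure ({t', φ'} : Set L)) := by
    intro x
    refine ⟨1, ?_⟩
    rw [pow_one, pow_two]
    exact Subtype.ext (hsq x.1 x.2)
  obtain ⟨Q₂, hQ₂⟩ := hW.exists_le_sylow
  obtain ⟨Q', hQ'⟩ := Cfsg.Agent.Lib.FGS.MinNon.exists_invariant_sylow Q₂ N (by rwa [hNc]) q
  have hcQ : Nat.card (Q' : Subgroup N) = q := by
    obtain ⟨k, hk⟩ := IsPGroup.iff_card.1 Q'.isPGroup'
    have h1 := card_mul_index (Q' : Subgroup N)
    rw [hNc] at h1
    have h2 := Q'.not_dvd_index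
    rcases k with _ | _ | k
    · rw [hk] at h1
      simp only [pow_zero, one_mul] at h1
      exact absurd (h1 ▸ hqK) h2
    · simpa using hk
    · exfalso
      apply hqq
      rw [← h1, hk]
      exact ⟨q ^ k * (Q' : Subgroup N).index, by ring⟩
  haveI : Nontrivial (Q' : Subgroup N) := by
    rw [← Finite.one_lt_card_iff_nontrivial, hcQ]
    exact hq.out.one_lt
  obtain ⟨x, hx⟩ := exists_ne (1 : (Q' : Subgroup N))
  set z : G := (((x : N) : L) : G) with hz
  have hzne : z ≠ 1 := fun h => hx (Subtype.ext (Subtype.ext (Subtype.ext h)))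
  have hzq : z ^ q = 1 := by
    have h1 : x ^ Nat.card (Q' : Subgroup N) = 1 := pow_card_eq_one'
    rw [hcQ] at h1
    have h2 := congrArg (fun y : (Q' : Subgroup N) => (((y : N) : L) : G)) h1
    simpa using h2
  have key : ∀ g : L, g ∈ (Q₂ : Subgroup L) → ∃ i : ℤ, (g : G) * z * (g : G)⁻¹ = z ^ i := by
    intro g hg
    have h1 : ((x : N) : L) ∈ (Q' : Subgroup N).map N.subtype := ⟨(x : N), x.2, rfl⟩
    have h2 := (mem_normalizer_iff.1 (hQ' g hg) _).1 h1
    obtain ⟨y, hy, e⟩ := h2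
    have h3 : (⟨y, hy⟩ : (Q' : Subgroup N)) ∈ zpowers x := mem_zpowers_of_prime_card hcQ hx
    obtain ⟨i, hi⟩ := mem_zpowers_iff.1 h3
    refine ⟨i, ?_⟩
    have h4 : y = (x : N) ^ i := by
      have := congrArg Subtype.val hi
      simpa using this.symm
    have h5 : g * ((x : N) : L) * g⁻¹ = ((x : N) : L) ^ i := by
      rw [← e]
      change (y : L) = _
      rw [h4]
      simp
    have h6 := congrArg Subtype.val h5
    simpa using h6
  refine ⟨z, orderOf_eq_prime hzq hzne, ?_, ?_, ?_⟩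
  · exact mem_subgroupOf.1 (x : N).2
  · exact key t' (hQ₂ (subset_closure (by simp)))
  · exact key φ' (hQ₂ (subset_closure (by simp)))

end Cfsg.Agent.Lib.J1Rec.Z0
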